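import Cfsg.Agent.Lib.Lie.MultExc.GTwoFour.Table
import Cfsg.Agent.Lib.Lie.MultExc.Bound
import Cfsg.Agent.Lib.Spor.Suz.GTwo.Iso

/-!
The exceptional group of type `G` over four elements is the tabulated group of four hundred and sixteen points.
-/

set_option autoImplicit false
set_option maxRecDepth 100000
set_option maxHeartbeats 0

namespace CfsgLib.Lie.MultExc.GTwoFour

open CfsgLib.Spor.PermCert CfsgLib.Spor.TC CfsgLib.Spor.Suz Cfsg.Lie

theorem images_ok : ∀ s : Fin 6, ∀ i : Fin 416, look tab.w tab.R s.1 i.1 = Act1.act.T s.1 i.1 := by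
  decide +kernel

theorem moved : look tab.w tab.R 0 2 ≠ 2 ∨ look tab.w tab.R 0 1 ≠ 1 ∨ look tab.w tab.R 5 0 ≠ 0 := by
  decide +kernel

theorem exists_g24Model : ∃ H : Subgroup (Equiv.Perm (Fin 416)), Model 416 tab H ∧
    Nonempty (↥H ≃* ↥(chevG2.group CfsgLib.Spor.Fi22.U6.Four)) := by
  obtain ⟨hsimple, hcard⟩ := g2_four
  haveI : IsSimpleGroup (Pres 6 relsA) := hsimple
  haveI : Finite (Pres 6 relsA) := Nat.finite_of_card_ne_zero (by rw [hcard]; norm_num)
  letI : MulAction (Pres 6 relsA) (Fin 416) := MulAction.compHom (Fin Act1.act.n) Act1.valid.rho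
  obtain ⟨H, M, ⟨e⟩⟩ := exists_model tab (G := Pres 6 relsA) (id : Fin 416 → Fin 416) Function.injective_id
    (fun g i => ⟨g • i, rfl⟩) (presGen 6 relsA) (fun s hs i => by
      refine ⟨presGen 6 relsA s • i, ?_, rfl⟩
      have hs' : s < 6 := hs
      have h1 := Act1.valid.rho_letters s
      rw [Act.letters_of_lt (A := Act1.act) (rels := relsA) hs'] at h1
      show (Act1.valid.rho (presGen 6 relsA s) i).1 = _
      rw [show Act1.valid.rho (presGen 6 relsA s) = Act1.valid.perm s from h1,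
        Act1.valid.perm_apply (lt_of_lt_of_le hs' (Nat.le_add_right _ _)) i]
      exact (images_ok ⟨s, hs'⟩ i).symm)
    (by
      rcases moved with h | h | h
      · exact ⟨0, by decide, ⟨2, by norm_num⟩, h⟩
      · exact ⟨0, by decide, ⟨1, by norm_num⟩, h⟩
      · exact ⟨5, by decide, ⟨0, by norm_num⟩, h⟩)
    (by rw [hcard]; exact tab_ok)
  obtain ⟨f⟩ := GTwo.pres_iso
  exact ⟨H, M, ⟨e.trans f⟩⟩

end CfsgLib.Lie.MultExc.GTwoFour
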