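import Cfsg.Agent.Lib.Lie.MultExc.GTwoFour.RepConj
import Cfsg.Agent.Lib.Lie.MultExc.Bound
import Cfsg.Agent.Lib.Spor.Mults.Stem
import Mathlib.LinearAlgebra.Matrix.GeneralLinearGroup.Defs

/-!
The double cover of the tabulated group: twelve-dimensional matrices moving the matrices of the points.
-/

set_option autoImplicit false
set_option maxRecDepth 100000

namespace CfsgLib.Lie.MultExc.GTwoFour

open CfsgLib.Spor.PermCert CfsgLib.Lie.MultExc.PackMat Matrix

theorem jMat_def (x : ℕ) : jMat x = toM 12 (jm x) := rfl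

attribute [local irreducible] jMat jm gm

/-- A matrix commuting with all matrices of the points is a scalar. -/
theorem eq_scalar {X : M12} (h : ∀ x < 416, X * jMat x = jMat x * X) : ∃ c : ZMod 3, X = c • (1 : M12) := by
  obtain ⟨hp, hq⟩ := poly_ok
  obtain ⟨hspan, hlt⟩ := span_ok
  have hP : Commute X poly := by
    have hc : ∀ x, x < 416 → Commute X (jMat x) := h
    exact (((Commute.one_right X).smul_right _).add_right ((hc 43 (by norm_num)).smul_right _)).add_right
      (((hc 86 (by norm_num)).mul_right (hc 376 (by norm_num))).smul_right _)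
  have hw : poly *ᵥ (X *ᵥ kerVec) = 0 := by
    rw [mulVec_mulVec, ← hP.eq, ← mulVec_mulVec, hp, mulVec_zero]
  set c : ZMod 3 := kerRow ⬝ᵥ (X *ᵥ kerVec)
  have hv : X *ᵥ kerVec = c • kerVec := by
    have h1 := congrArg (fun Y : M12 => Y *ᵥ (X *ᵥ kerVec)) hq
    simp only [add_mulVec, one_mulVec, ← mulVec_mulVec _ polyInv poly, hw, mulVec_zero, zero_add,
      vecMulVec_mulVec] at h1
    rw [← h1]
    funext i
    simp [Pi.smul_apply, MulOpposite.smul_eq_mul_unop, mul_comm, c]
  refine ⟨c, ?_⟩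
  have hcols : ∀ u : List ℕ, (∀ a ∈ u, a < 416) →
      X *ᵥ (u.foldr (fun a v => jMat a *ᵥ v) kerVec) = c • u.foldr (fun a v => jMat a *ᵥ v) kerVec := by
    intro u
    induction u with
    | nil => intro _; exact hv
    | cons a u ih =>
      intro hu
      rw [List.foldr_cons, mulVec_mulVec, h a (hu a List.mem_cons_self), ← mulVec_mulVec,
        ih fun b hb => hu b (List.mem_cons_of_mem _ hb), mulVec_smul]
  have hXV : X * spanMat = c • spanMat := by
    ext i k
    have hu : ∀ a ∈ spanWords.getD k.1 [], a < 416 := by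
      intro a ha
      simp only [List.all_eq_true] at hlt
      by_cases hk : k.1 < spanWords.length
      · rw [List.getD_eq_getElem _ _ hk] at ha
        exact Nat.le_of_ble_eq_true (hlt _ (List.getElem_mem hk) a ha)
      · rw [List.getD_eq_default _ _ (not_lt.1 hk)] at ha
        exact absurd ha List.not_mem_nil
    exact congrFun (hcols _ hu) i
  have := congrArg (· * spanInv) hXV
  simpa only [Matrix.mul_assoc, Matrix.smul_mul, mul_eq_one_comm.1 hspan, Matrix.mul_one] using this

/-- The pairs moving the matrices of the points as the permutation moves the points. -/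
def Good : Subgroup (GL (Fin 12) (ZMod 3) × Equiv.Perm (Fin 416)) where
  carrier := {p | ∀ x : Fin 416, p.1.val * jMat x.1 = jMat (p.2 x).1 * p.1.val}
  one_mem' x := by simp
  mul_mem' := fun {a b} ha hb x => by
    rw [Prod.fst_mul, Units.val_mul, Prod.snd_mul, Equiv.Perm.mul_apply, Matrix.mul_assoc, hb,
      ← Matrix.mul_assoc, ha, Matrix.mul_assoc]
  inv_mem' := fun {a} ha x => by
    have h := ha (a.2⁻¹ x)
    rw [Equiv.Perm.coe_inv, Equiv.apply_symm_apply] at h
    rw [Prod.fst_inv, Prod.snd_inv, Equiv.Perm.coe_inv]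
    calc a.1⁻¹.val * jMat x.1 = a.1⁻¹.val * (jMat x.1 * a.1.val) * a.1⁻¹.val := by
          rw [Matrix.mul_assoc, Matrix.mul_assoc, ← Units.val_mul, mul_inv_cancel, Units.val_one, Matrix.mul_one]
      _ = jMat (Equiv.symm a.2 x).1 * a.1⁻¹.val := by
          rw [← h, ← Matrix.mul_assoc, ← Units.val_mul, inv_mul_cancel, Units.val_one, Matrix.one_mul]

theorem conjOK_all {s : ℕ} (hs : s < 6) : conjOK s = true := by
  interval_cases s
  exacts [conj_zero, conj_one, conj_two, conj_three, conj_four, conj_five]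

theorem conj_eq {s : ℕ} (hs : s < 6) (x : Fin 416) :
    toM 12 (gm s) * jMat x.1 = jMat (look tab.w tab.R s x.1) * toM 12 (gm s) := by
  obtain ⟨hj, hg⟩ := mats_ok
  simp only [List.all_eq_true, List.mem_range] at hj hg
  have h := conjOK_all hs
  simp only [conjOK, List.all_eq_true, List.mem_range] at h
  rw [jMat_def, jMat_def]
  exact mul_eq_of_sameProd (by norm_num) (hg s hs) (hj x.1 x.2) (hj _ (involutive ⟨s, hs⟩ x).1) (hg s hs) (h x.1 x.2)

/-- Minus one over the identity. -/
def negPair : GL (Fin 12) (ZMod 3) × Equiv.Perm (Fin 416) := (-1, 1)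

theorem exists_doubleCover {H : Subgroup (Equiv.Perm (Fin 416))} (M : Model 416 tab H)
    (hperf : commutator ↥H = ⊤) :
    ∃ (Γ : Type) (_ : Group Γ) (_ : Finite Γ) (τ : Γ →* ↥H), Cfsg.IsStemExtension τ ∧ Nat.card τ.ker = 2 := by
  classical
  obtain ⟨σ, hσ, hH⟩ := M.gens
  have hsgn : ∀ s : Fin 6, sgn s.1 * sgn s.1 = 1 := by decide
  let gu : Fin 6 → GL (Fin 12) (ZMod 3) := fun s =>
    ⟨toM 12 (gm s.1), sgn s.1 • toM 12 (gm s.1),
      by rw [Matrix.mul_smul, squares, smul_smul, hsgn, one_smul],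
      by rw [Matrix.smul_mul, squares, smul_smul, hsgn, one_smul]⟩
  let gen : Fin 6 → GL (Fin 12) (ZMod 3) × Equiv.Perm (Fin 416) := fun s => (gu s, σ s.1)
  let Γ : Subgroup (GL (Fin 12) (ZMod 3) × Equiv.Perm (Fin 416)) := Subgroup.closure (Set.range gen)
  have hle : Γ ≤ Good := (Subgroup.closure_le _).2 (by
    rintro _ ⟨s, rfl⟩ x
    show toM 12 (gm s.1) * jMat x.1 = jMat (σ s.1 x).1 * toM 12 (gm s.1)
    rw [hσ s.1 s.2 x]
    exact conj_eq s.2 x)
  have himg : Γ.map (MonoidHom.snd _ _) = H := by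
    rw [MonoidHom.map_closure, ← hH]
    congr 1
    ext g
    constructor
    · rintro ⟨_, ⟨s, rfl⟩, rfl⟩
      exact ⟨s.1, s.2, rfl⟩
    · rintro ⟨s, hs, rfl⟩
      exact ⟨_, ⟨⟨s, hs⟩, rfl⟩, rfl⟩
  let τ : Γ →* ↥H := ((MonoidHom.snd _ _).comp Γ.subtype).codRestrict H fun a => himg ▸ ⟨_, a.2, rfl⟩
  have hsurj : Function.Surjective τ := fun h => by
    obtain ⟨a, ha, e⟩ := himg.ge h.2
    exact ⟨⟨a, ha⟩, Subtype.ext e⟩
  -- the square of the fourth lift
  let x : Γ := ⟨gen 3, Subgroup.subset_closure ⟨3, rfl⟩⟩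
  have hx : ((x ^ 2 : Γ) : GL (Fin 12) (ZMod 3) × Equiv.Perm (Fin 416)) = negPair := by
    rw [pow_two]
    refine Prod.ext (Units.ext ?_) (Equiv.ext fun i => Fin.ext ?_)
    · show toM 12 (gm 3) * toM 12 (gm 3) = ((-1 : GL (Fin 12) (ZMod 3)) : M12)
      rw [show toM 12 (gm 3) * toM 12 (gm 3) = sgn 3 • (1 : M12) from squares 3, show sgn 3 = -1 from rfl, neg_one_smul, Units.val_neg, Units.val_one]
    · show (σ 3 (σ 3 i)).1 = i.1
      rw [hσ 3 (by decide), hσ 3 (by decide)]
      exact (involutive 3 i).2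
  set z : Γ := x ^ 2 with hz
  have hkerz : ∀ a ∈ τ.ker, a = 1 ∨ a = z := by
    intro a ha
    have h1 : a.1.2 = 1 := congrArg Subtype.val (MonoidHom.mem_ker.1 ha)
    obtain ⟨c, hc⟩ := eq_scalar (X := a.1.1.val) fun i hi => by
      have := hle a.2 ⟨i, hi⟩
      rwa [h1] at this
    rcases (show c = 0 ∨ c = 1 ∨ c = 2 from (by decide : ∀ e : ZMod 3, e = 0 ∨ e = 1 ∨ e = 2) c) with rfl | rfl | rfl
    · exfalso
      have h2 : a.1.1.val * a.1.1⁻¹.val = 1 := by rw [← Units.val_mul, mul_inv_cancel, Units.val_one]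
      rw [hc, zero_smul, Matrix.zero_mul] at h2
      exact absurd (congrFun (congrFun h2 0) 0) (by decide)
    · exact Or.inl (Subtype.ext (Prod.ext (Units.ext (by rw [hc, one_smul]; rfl)) h1))
    · refine Or.inr (Subtype.ext ?_)
      rw [hx]
      refine Prod.ext (Units.ext ?_) h1
      rw [hc, show (2 : ZMod 3) = -1 from rfl, neg_one_smul]
      rfl
  have hzker : z ∈ τ.ker := Subtype.ext (congrArg Prod.snd hx)
  have hzc : ∀ b : Γ, z * b = b * z := fun b => Subtype.ext (by
    rw [Subgroup.coe_mul, Subgroup.coe_mul, hx, negPair]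
    exact Prod.ext (show -1 * b.1.1 = b.1.1 * -1 by rw [neg_one_mul, mul_neg_one]) (by simp))
  have hz2 : z ^ 2 = 1 := Subtype.ext (by
    rw [SubgroupClass.coe_pow, hx, negPair, pow_two]
    exact Prod.ext (by simp) (by simp))
  have hzne : z ≠ 1 := fun e => by
    have h2 := congrArg (fun a : Γ => (a.1.1.val : M12) 0 0) e
    simp only [hx, negPair] at h2
    simp at h2
    exact absurd h2 (by decide)
  refine ⟨Γ, inferInstance, inferInstance, τ, CfsgLib.Spor.Mults.isStem_of_pow hsurj hperf (z := z) ?_ ?_ hz2 x hz.symm, ?_⟩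
  · intro a ha
    rcases hkerz a ha with rfl | rfl
    exacts [one_mem _, Subgroup.mem_zpowers _]
  · intro a ha
    refine Subgroup.mem_center_iff.2 fun b => ?_
    rcases hkerz a ha with rfl | rfl
    · simp
    · exact (hzc b).symm
  · rw [Nat.card_eq_two_iff]
    refine ⟨1, ⟨z, hzker⟩, fun e => hzne (congrArg Subtype.val e).symm, ?_⟩
    ext a
    simp only [Set.mem_insert_iff, Set.mem_singleton_iff, Set.mem_univ, iff_true]
    rcases hkerz a.1 a.2 with h | h
    · exact Or.inl (Subtype.ext h)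
    · exact Or.inr (Subtype.ext h)

end CfsgLib.Lie.MultExc.GTwoFour
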