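import Cfsg.Agent.Lib.Lie.MultExc.GTwoFour.Table

/-!
The certificate at the prime 2: a polycyclic sequence of a Sylow subgroup and conjugations.
-/

set_option autoImplicit false
set_option maxRecDepth 100000
set_option maxHeartbeats 0

namespace CfsgLib.Lie.MultExc.GTwoFour.P2

open CfsgLib.Spor.SchurCert

/-- The Sylow elements. -/
def sw : List (List ℕ) := [
    [407, 683, 815, 5, 828],
    [215, 541, 811, 5, 828],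
    [201, 596, 875, 914, 829],
    [187, 752, 836, 913, 828],
    [199, 536, 914, 828],
    [319, 579, 851, 5, 829],
    [259, 733, 900, 910, 828],
    [76, 793, 846, 5, 828],
    [200, 760, 889, 914],
    [280, 685, 815, 915],
    [242, 633, 870, 5, 828],
    [256, 532, 865, 910, 829]]

/-- The conjugating elements. -/
def gw : List (List ℕ) := [
    [117, 785, 898, 915],
    [190, 521, 893, 5]]

/-- The certificate. -/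
def cert : CfsgLib.Spor.SchurCert.Cert where
  p := 2
  m := 12
  N := 4
  rules := [
    ([0, 0], []),
    ([1, 1], [10, 11]),
    ([2, 2], [10]),
    ([3, 3], [7, 8, 9, 10]),
    ([4, 4], [10]),
    ([5, 5], [10, 11]),
    ([6, 6], [11]),
    ([7, 7], [10, 11]),
    ([8, 8], [10, 11]),
    ([9, 9], []),
    ([10, 10], []),
    ([11, 11], []),
    ([1, 0], [0, 1, 2, 9, 10]),
    ([2, 0], [0, 2, 10]),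
    ([2, 1], [1, 2, 10, 11]),
    ([3, 0], [0, 3, 8, 11]),
    ([3, 1], [1, 3, 4, 5, 6, 9, 11]),
    ([3, 2], [2, 3, 5, 7]),
    ([4, 0], [0, 4, 5, 7, 8, 9, 10]),
    ([4, 1], [1, 4, 11]),
    ([4, 2], [2, 4, 10, 11]),
    ([4, 3], [3, 4, 7, 8, 10, 11]),
    ([5, 0], [0, 5, 9, 10]),
    ([5, 1], [1, 5, 10]),
    ([5, 2], [2, 5, 11]),
    ([5, 3], [3, 5, 9]),
    ([5, 4], [4, 5, 10, 11]),
    ([6, 0], [0, 6, 8, 11]),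
    ([6, 1], [1, 6]),
    ([6, 2], [2, 6]),
    ([6, 3], [3, 6, 7, 8, 9, 10, 11]),
    ([6, 4], [4, 6, 10, 11]),
    ([6, 5], [5, 6, 10]),
    ([7, 0], [0, 7, 9, 10]),
    ([7, 1], [1, 7]),
    ([7, 2], [2, 7, 11]),
    ([7, 3], [3, 7, 9, 11]),
    ([7, 4], [4, 7, 10]),
    ([7, 5], [5, 7]),
    ([7, 6], [6, 7, 10, 11]),
    ([8, 0], [0, 8, 10, 11]),
    ([8, 1], [1, 8, 10, 11]),
    ([8, 2], [2, 8]),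
    ([8, 3], [3, 8, 9, 10]),
    ([8, 4], [4, 8, 11]),
    ([8, 5], [5, 8, 10, 11]),
    ([8, 6], [6, 8, 10, 11]),
    ([8, 7], [7, 8, 10, 11]),
    ([9, 0], [0, 9]),
    ([9, 1], [1, 9, 11]),
    ([9, 2], [2, 9]),
    ([9, 3], [3, 9, 10, 11]),
    ([9, 4], [4, 9, 10, 11]),
    ([9, 5], [5, 9]),
    ([9, 6], [6, 9, 10, 11]),
    ([9, 7], [7, 9]),
    ([9, 8], [8, 9]),
    ([10, 0], [0, 10]),
    ([10, 1], [1, 10]),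
    ([10, 2], [2, 10]),
    ([10, 3], [3, 10]),
    ([10, 4], [4, 10]),
    ([10, 5], [5, 10]),
    ([10, 6], [6, 10]),
    ([10, 7], [7, 10]),
    ([10, 8], [8, 10]),
    ([10, 9], [9, 10]),
    ([11, 0], [0, 11]),
    ([11, 1], [1, 11]),
    ([11, 2], [2, 11]),
    ([11, 3], [3, 11]),
    ([11, 4], [4, 11]),
    ([11, 5], [5, 11]),
    ([11, 6], [6, 11]),
    ([11, 7], [7, 11]),
    ([11, 8], [8, 11]),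
    ([11, 9], [9, 11]),
    ([11, 10], [10, 11])]
  maps := [
    [([0], [0, 3, 6, 9, 10, 11]), ([2], [0, 3, 4, 7, 8]), ([3, 6], [0, 5, 7, 9]), ([4, 6], [2, 4, 6, 7, 8, 11]), ([5], [0, 5, 9]), ([7], [0, 5]), ([8], [3, 6, 8]), ([9], [5, 7, 9, 10, 11]), ([10], [5, 7, 9]), ([11], [5, 7, 11])],
    [([1, 7], [1, 7]), ([2, 6, 8, 9], [1, 2, 4, 5, 6, 8, 10, 11]), ([4, 6, 7, 8], [1, 5, 6, 7, 8, 9, 10, 11]), ([5, 6, 8, 9], [1, 4, 6, 8, 10]), ([10], [1, 2, 5, 7]), ([11], [2, 4, 7, 9, 11])]]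
  overlaps := [
    ([1, 1, 1], [(1, 0), (68, 1), (58, 0)], [(1, 1)]),
    ([1, 1, 0], [(1, 0), (67, 1), (57, 0)], [(12, 1), (12, 0), (58, 4), (49, 3), (14, 2), (1, 1), (69, 2), (59, 1), (77, 3), (10, 2), (11, 2), (77, 3), (69, 4), (59, 3), (50, 2), (2, 1), (66, 1), (10, 2), (76, 2), (9, 1), (77, 1)]),
    ([1, 0, 0], [(0, 1)], [(12, 0), (57, 4), (48, 3), (13, 2), (12, 1), (0, 0), (59, 3), (50, 2), (2, 1), (66, 1), (10, 2), (66, 2), (9, 1), (10, 1)]),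
    ([2, 2, 2], [(2, 0), (59, 0)], [(2, 1)]),
    ([2, 2, 0], [(2, 0), (57, 0)], [(13, 1), (13, 0), (59, 2), (2, 1), (10, 1)]),
    ([2, 2, 1], [(2, 0), (58, 0)], [(14, 1), (14, 0), (69, 3), (59, 2), (2, 1), (10, 1), (77, 1), (11, 2)]),
    ([2, 1, 1], [(1, 1)], [(14, 0), (68, 3), (58, 2), (14, 1), (1, 0), (69, 1), (59, 0), (77, 2), (10, 1), (11, 1)]),
    ([2, 1, 0], [(14, 0), (67, 3), (57, 2), (13, 1), (12, 0), (59, 4), (50, 3), (2, 2), (66, 2), (10, 3), (10, 3)], [(12, 1), (13, 0), (58, 2), (14, 1), (77, 4), (10, 3), (69, 3), (2, 2), (76, 3), (66, 2), (77, 4), (10, 3)]),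
    ([3, 3, 3], [(3, 0), (60, 3), (51, 2), (43, 1), (36, 0), (75, 3), (56, 2), (76, 4), (9, 3), (77, 3), (76, 4), (66, 3), (77, 5), (10, 4), (11, 4)], [(3, 1)]),
    ([3, 3, 0], [(3, 0), (57, 3), (48, 2), (40, 1), (33, 0), (65, 3), (56, 2), (10, 4), (76, 4), (9, 3), (77, 3)], [(15, 1), (15, 0), (70, 3), (43, 2), (3, 1), (65, 4), (56, 3), (8, 2), (76, 3), (66, 2), (77, 4), (10, 3), (76, 3), (9, 2), (77, 2), (11, 3), (65, 2)]),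
    ([3, 0, 0], [(0, 1)], [(15, 0), (67, 3), (40, 2), (15, 1), (0, 0), (75, 2), (8, 1), (11, 2), (10, 1), (11, 1)]),
    ([3, 3, 1], [(3, 0), (58, 3), (49, 2), (41, 1), (34, 0), (76, 4), (66, 3), (11, 5), (10, 4)], [(16, 1), (16, 0), (70, 6), (51, 5), (30, 4), (25, 3), (21, 2), (3, 1), (61, 4), (52, 3), (44, 2), (37, 1), (65, 3), (76, 5), (66, 4), (77, 6), (10, 5), (11, 5), (64, 5), (55, 4), (47, 3), (7, 2), (75, 3), (65, 2), (77, 4), (10, 3), (11, 3), (65, 4), (56, 3), (8, 2), (76, 3), (66, 2), (77, 4), (10, 3), (77, 3), (11, 4), (62, 3), (53, 2), (66, 4), (9, 3), (63, 3), (64, 4), (65, 5), (66, 6), (10, 7), (76, 7), (9, 6), (77, 6), (11, 7), (71, 7), (61, 6), (44, 5), (37, 4), (31, 3), (26, 2), (4, 1), (62, 1), (10, 2), (73, 2), (77, 3), (11, 4), (64, 3), (10, 4), (77, 5), (11, 6), (62, 5), (45,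 4), (38, 3), (32, 2), (5, 1), (73, 2), (63, 1), (77, 3), (10, 2), (74, 2), (75, 3), (77, 4), (11, 5), (10, 4), (46, 3), (39, 2), (6, 1), (74, 1), (77, 2), (11, 3), (65, 2), (10, 3), (76, 3), (11, 4)]),
    ([3, 1, 1], [(1, 1)], [(16, 0), (68, 6), (49, 5), (28, 4), (23, 3), (19, 2), (16, 1), (1, 0), (70, 1), (60, 0), (71, 2), (61, 1), (72, 3), (62, 2), (73, 4), (63, 3), (76, 5), (66, 4), (11, 6), (61, 5), (52, 4), (31, 3), (26, 2), (4, 1), (62, 1), (10, 2), (73, 2), (77, 3), (11, 4), (66, 3), (10, 4), (77, 4), (11, 5), (62, 4), (53, 3), (32, 2), (5, 1), (73, 2), (63, 1), (77, 3), (10, 2), (76, 2), (77, 3), (77, 4), (10, 3), (73, 3), (54, 2), (6, 1), (76, 1), (77, 2), (11, 3), (76, 3), (66, 2), (9, 1), (11, 2)]),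
    ([3, 1, 0], [(16, 0), (67, 6), (48, 5), (27, 4), (22, 3), (18, 2), (15, 1), (12, 0), (60, 4), (51, 3), (77, 6), (10, 5), (75, 5), (56, 4), (11, 6), (52, 5), (44, 4), (76, 6), (77, 7), (11, 8), (62, 7), (53, 6), (45, 5), (76, 8), (66, 7), (77, 9), (10, 8), (74, 8), (55, 7), (47, 6), (76, 9), (66, 8), (11, 10), (65, 9), (56, 8), (8, 7), (76, 8), (66, 7), (77, 9), (10, 8), (76, 8), (9, 7), (77, 7), (72, 8), (62, 7), (38, 6), (5, 5), (74, 6), (64, 5), (77, 7), (10, 6), (11, 6), (63, 7), (54, 6), (39, 5), (76, 8), (66, 7), (77, 9), (10, 8), (11, 8), (65, 8), (56, 7), (76, 10), (66, 9), (9, 8), (11, 9)], [(12, 1), (15, 0), (68, 3), (41, 2), (16, 1), (75, 7), (56, 6), (77, 8), (11, 9), (69, 9), (59, 8), (50, 7), (42, 6), (29, 5), (24, 4), (20, 3), (17, 2), (37, 5), (26, 4), (74, 7), (64, 6), (77, 8),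 (10, 7), (77, 7), (11, 8), (62, 7), (38, 6), (5, 5), (74, 6), (64, 5), (77, 7), (10, 6), (11, 6), (39, 5), (75, 8), (65, 7), (76, 9), (66, 8), (77, 10), (10, 9), (11, 9), (9, 8)]),
    ([3, 3, 2], [(3, 0), (59, 3), (50, 2), (42, 1), (35, 0), (75, 2), (76, 3), (77, 4)], [(17, 1), (17, 0), (36, 3), (25, 2), (3, 1), (62, 4), (53, 3), (45, 2), (38, 1), (76, 5), (66, 4), (77, 6), (10, 5), (76, 5), (9, 4), (74, 4), (47, 3), (7, 2), (75, 3), (65, 2), (77, 4), (10, 3), (11, 3), (76, 3), (11, 4), (53, 3), (45, 2), (5, 1), (75, 2), (65, 1), (77, 3), (10, 2), (11, 2), (55, 2), (47, 1), (76, 4), (66, 3)]),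
    ([3, 2, 2], [(2, 1)], [(17, 0), (35, 3), (24, 2), (17, 1), (2, 0), (60, 0), (62, 1), (64, 2), (62, 3), (38, 2), (5, 1), (74, 2), (64, 1), (77, 3), (10, 2), (11, 2), (7, 1), (11, 2)]),
    ([3, 2, 0], [(17, 0), (33, 3), (22, 2), (15, 1), (13, 0), (60, 2), (65, 3), (72, 5), (62, 4), (45, 3), (77, 6), (10, 5), (11, 5), (64, 6), (55, 5), (47, 4), (76, 7), (66, 6), (77, 8), (10, 7), (76, 7), (9, 6), (77, 6)], [(13, 1), (15, 0), (69, 3), (42, 2), (17, 1), (77, 6)]),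
    ([3, 2, 1], [(17, 0), (34, 3), (23, 2), (16, 1), (14, 0), (70, 3), (60, 2), (71, 4), (61, 3), (72, 5), (62, 4), (73, 6), (63, 5), (76, 7), (66, 6), (11, 8), (62, 7), (53, 6), (32, 5), (5, 4), (73, 5), (63, 4), (77, 6), (10, 5), (76, 5), (77, 6), (77, 7), (10, 6), (74, 6), (55, 5)], [(14, 1), (16, 0), (69, 6), (50, 5), (29, 4), (24, 3), (20, 2), (17, 1), (37, 4), (26, 3), (74, 6), (64, 5), (77, 7), (10, 6), (77, 6), (11, 7), (62, 6), (38, 5), (5, 4), (74, 5), (64, 4), (77, 6), (10, 5), (11, 5), (39, 4), (76, 7), (66, 6), (11, 8), (10, 7)]),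
    ([4, 4, 4], [(4, 0), (61, 0)], [(4, 1)]),
    ([4, 4, 0], [(4, 0), (57, 0)], [(18, 1), (18, 0), (61, 6), (52, 5), (44, 4), (37, 3), (26, 2), (4, 1), (62, 1), (10, 2), (74, 2), (77, 3), (75, 4), (65, 3), (11, 5), (66, 4), (10, 5), (77, 5), (72, 6), (62, 5), (53, 4), (45, 3), (38, 2), (5, 1), (74, 2), (64, 1), (75, 3), (65, 2), (77, 4), (10, 3), (11, 3), (74, 5), (64, 4), (55, 3), (47, 2), (7, 1), (75, 2), (65, 1), (77, 3), (10, 2), (11, 2), (75, 4), (65, 3), (56, 2), (8, 1), (76, 2), (66, 1), (77, 3), (10, 2), (11, 2), (9, 1)]),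
    ([4, 0, 0], [(0, 1)], [(18, 0), (57, 6), (48, 5), (40, 4), (33, 3), (22, 2), (18, 1), (0, 0), (62, 5), (53, 4), (45, 3), (38, 2), (5, 1), (74, 2), (64, 1), (75, 3), (65, 2), (77, 4), (10, 3), (11, 3), (66, 4), (9, 3), (10, 3), (47, 2), (7, 1), (75, 2), (65, 1), (77, 3), (10, 2), (11, 2), (65, 3), (56, 2), (8, 1), (76, 2), (66, 1), (77, 3), (10, 2), (77, 2), (11, 3), (66, 2), (9, 1), (10, 1)]),
    ([4, 4, 1], [(4, 0), (58, 0)], [(19, 1), (19, 0), (71, 2), (4, 1), (11, 2)]),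
    ([4, 1, 0], [(19, 0), (67, 2), (18, 1), (12, 0), (61, 4), (52, 3), (77, 6), (10, 5), (72, 5), (53, 4), (74, 6), (55, 5), (75, 7), (56, 6), (76, 8), (9, 7), (77, 7), (11, 8)], [(12, 1), (18, 0), (58, 6), (49, 5), (41, 4), (34, 3), (23, 2), (19, 1), (72, 3), (77, 4), (74, 5), (64, 4), (75, 6), (65, 5), (77, 7), (10, 6), (11, 6), (77, 7), (69, 8), (59, 7), (50, 6), (42, 5), (35, 4), (24, 3), (20, 2), (72, 5), (62, 4), (11, 6), (64, 5), (75, 7), (65, 6), (76, 8), (66, 7), (77, 9), (10, 8), (11, 8), (9, 7)]),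
    ([4, 4, 2], [(4, 0), (59, 0)], [(20, 1), (20, 0), (71, 3), (61, 2), (4, 1), (10, 1), (77, 1), (11, 2)]),
    ([4, 2, 2], [(2, 1)], [(20, 0), (69, 3), (59, 2), (20, 1), (2, 0), (61, 0), (10, 1), (77, 1), (11, 2)]),
    ([4, 2, 0], [(20, 0), (67, 3), (57, 2), (18, 1), (13, 0), (61, 2), (62, 3), (64, 4), (65, 5), (66, 6), (10, 7)], [(13, 1), (18, 0), (59, 6), (50, 5), (42, 4), (35, 3), (24, 2), (20, 1), (72, 4), (62, 3), (11, 5), (64, 4), (75, 6), (65, 5), (76, 7), (66, 6), (77, 8), (10, 7), (77, 7)]),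
    ([4, 4, 3], [(4, 0), (60, 0)], [(21, 1), (21, 0), (71, 5), (61, 4), (44, 3), (37, 2), (4, 1), (64, 1), (10, 2), (77, 3), (11, 4), (64, 3), (47, 2), (7, 1), (75, 2), (65, 1), (77, 3), (10, 2), (11, 2), (65, 2), (8, 1), (77, 2), (10, 1), (77, 1), (11, 2)]),
    ([4, 3, 3], [(3, 1)], [(21, 0), (70, 5), (60, 4), (43, 3), (36, 2), (21, 1), (3, 0), (61, 3), (52, 2), (44, 1), (37, 0), (65, 2), (76, 4), (66, 3), (77, 5), (10, 4), (11, 4), (64, 4), (55, 3), (47, 2), (7, 1), (75, 2), (65, 1), (77, 3), (10, 2), (11, 2), (65, 3), (56, 2), (8, 1), (76, 2), (66, 1), (77, 3), (10, 2), (77, 2), (11, 3), (64, 2), (55, 1), (66, 3), (9, 2), (75, 3), (65, 2), (76, 4), (66, 3), (77, 5), (10, 4), (77, 4), (11, 5)]),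
    ([4, 3, 0], [(21, 0), (67, 5), (57, 4), (40, 3), (33, 2), (18, 1), (15, 0), (71, 3), (44, 2), (11, 4), (45, 3), (74, 6), (64, 5), (47, 4), (77, 7), (10, 6), (11, 6), (8, 5), (76, 6), (66, 5), (77, 7), (10, 6), (74, 6), (55, 5), (7, 4), (76, 5), (66, 4), (11, 6), (66, 5), (9, 4), (10, 4), (77, 6), (10, 5), (11, 5)], [(15, 1), (18, 0), (60, 6), (51, 5), (43, 4), (36, 3), (25, 2), (21, 1), (72, 6), (62, 5), (45, 4), (38, 3), (77, 7), (10, 6), (11, 6), (55, 6), (47, 5), (7, 4), (75, 5), (65, 4), (77, 6), (10, 5), (11, 5), (9, 5), (75, 5), (8, 4), (11, 5), (66, 4), (10, 5), (9, 4), (77, 5), (10, 4), (75, 4), (11, 5)]),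
    ([4, 3, 1], [(21, 0), (68, 5), (58, 4), (41, 3), (34, 2), (19, 1), (16, 0), (71, 6), (52, 5), (31, 4), (26, 3), (4, 2), (62, 2), (10, 3), (73, 3), (77, 4), (11, 5), (66, 4), (10, 5), (11, 5), (74, 5), (55, 4), (75, 6), (56, 5), (77, 7), (11, 8), (10, 7)], [(16, 1), (19, 0), (70, 2), (21, 1), (11, 6), (61, 5), (44, 4), (37, 3), (4, 2), (64, 2), (10, 3), (77, 4), (72, 5), (62, 4), (45, 3), (38, 2), (77, 6), (10, 5), (11, 5), (46, 4), (39, 3), (75, 6), (65, 5), (77, 7), (10, 6), (11, 6)]),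
    ([4, 3, 2], [(21, 0), (69, 5), (59, 4), (42, 3), (35, 2), (20, 1), (17, 0), (37, 3), (26, 2), (74, 5), (64, 4), (77, 6), (10, 5), (77, 5), (11, 6), (64, 5), (7, 4), (77, 5), (10, 4), (11, 4)], [(17, 1), (20, 0), (70, 3), (60, 2), (21, 1), (77, 6), (10, 5), (11, 5), (45, 4), (38, 3), (74, 7), (64, 6), (47, 5), (7, 4), (75, 5), (65, 4), (77, 6), (10, 5), (11, 5)]),
    ([5, 5, 5], [(5, 0), (72, 1), (62, 0)], [(5, 1)]),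
    ([5, 5, 0], [(5, 0), (67, 1), (57, 0)], [(22, 1), (22, 0), (62, 3), (53, 2), (5, 1), (76, 2), (66, 1), (77, 3), (10, 2), (76, 2), (9, 1), (77, 1)]),
    ([5, 0, 0], [(0, 1)], [(22, 0), (57, 3), (48, 2), (22, 1), (0, 0), (66, 2), (9, 1), (10, 1)]),
    ([5, 5, 1], [(5, 0), (68, 1), (58, 0)], [(23, 1), (23, 0), (62, 2), (5, 1), (77, 2), (10, 1), (77, 1)]),
    ([5, 1, 1], [(1, 1)], [(23, 0), (58, 2), (23, 1), (1, 0), (72, 1), (62, 0), (77, 2), (10, 1), (77, 1)]),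
    ([5, 1, 0], [(23, 0), (57, 2), (22, 1), (12, 0), (62, 4), (53, 3), (66, 5), (9, 4), (10, 4)], [(12, 1), (22, 0), (58, 3), (49, 2), (23, 1), (66, 3), (77, 5), (10, 4), (69, 4), (50, 3), (24, 2), (76, 4), (11, 5), (9, 4)]),
    ([5, 2, 0], [(24, 0), (67, 2), (22, 1), (13, 0), (62, 2), (66, 3), (10, 4)], [(13, 1), (22, 0), (59, 3), (50, 2), (24, 1), (76, 3), (77, 4), (77, 5), (10, 4)]),
    ([5, 5, 3], [(5, 0), (70, 1), (60, 0)], [(25, 1), (25, 0), (53, 2), (5, 1), (76, 2), (66, 1), (76, 3), (66, 2), (9, 1)]),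
    ([5, 3, 3], [(3, 1)], [(25, 0), (51, 2), (25, 1), (3, 0), (62, 3), (53, 2), (45, 1), (38, 0), (76, 4), (66, 3), (77, 5), (10, 4), (76, 4), (9, 3), (76, 3), (77, 4), (11, 5)]),
    ([5, 3, 0], [(25, 0), (48, 2), (22, 1), (15, 0), (72, 3), (45, 2), (11, 5), (66, 4), (10, 5), (9, 4)], [(15, 1), (22, 0), (60, 3), (51, 2), (25, 1), (9, 3), (77, 4), (10, 3), (75, 3), (11, 4)]),
    ([5, 3, 1], [(25, 0), (49, 2), (23, 1), (16, 0), (72, 6), (53, 5), (32, 4), (5, 3), (73, 4), (63, 3), (77, 5), (10, 4), (76, 4), (11, 5), (66, 5), (9, 4)], [(16, 1), (23, 0), (60, 2), (25, 1), (61, 4), (52, 3), (26, 2), (76, 5), (66, 4), (77, 6), (10, 5), (11, 5), (62, 5), (53, 4), (5, 3), (76, 4), (66, 3), (77, 5), (10, 4), (73, 4), (54, 3), (11, 6), (66, 5), (9, 4)]),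
    ([5, 3, 2], [(25, 0), (50, 2), (24, 1), (17, 0), (38, 3), (5, 2), (74, 3), (64, 2), (11, 4), (66, 3)], [(17, 1), (24, 0), (70, 2), (25, 1), (72, 4), (53, 3), (5, 2), (76, 3), (66, 2), (11, 4), (64, 3), (55, 2)]),
    ([5, 4, 0], [(26, 0), (67, 3), (57, 2), (22, 1), (18, 0), (62, 6), (53, 5), (45, 4), (38, 3), (5, 2), (74, 3), (64, 2), (75, 4), (65, 3), (77, 5), (10, 4), (11, 4), (66, 5), (9, 4), (10, 4)], [(18, 1), (22, 0), (61, 3), (52, 2), (26, 1), (76, 4), (66, 3), (77, 5), (10, 4), (11, 4), (62, 4), (53, 3), (5, 2), (76, 3), (66, 2), (77, 4), (10, 3), (74, 3), (55, 2), (75, 4), (56, 3), (76, 5), (9, 4), (77, 4)]),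
    ([5, 4, 3], [(26, 0), (70, 3), (60, 2), (25, 1), (21, 0), (72, 5), (62, 4), (45, 3), (38, 2), (77, 6), (10, 5), (11, 5)], [(21, 1), (25, 0), (52, 2), (26, 1), (76, 4), (66, 3), (77, 5), (10, 4), (11, 4), (55, 3), (56, 4)]),
    ([6, 6, 6], [(6, 0), (73, 0)], [(6, 1)]),
    ([6, 6, 0], [(6, 0), (67, 0)], [(27, 1), (27, 0), (73, 3), (46, 2), (6, 1), (75, 1), (77, 2), (11, 3), (75, 3), (65, 2), (8, 1), (77, 2), (10, 1), (11, 1)]),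
    ([6, 1, 1], [(1, 1)], [(28, 0), (28, 1), (1, 0), (73, 1), (63, 0)]),
    ([6, 1, 0], [(28, 0), (27, 1), (12, 0), (63, 4), (54, 3), (77, 6), (10, 5), (75, 5), (56, 4), (11, 6)], [(12, 1), (27, 0), (68, 3), (41, 2), (28, 1), (11, 5), (59, 4), (42, 3), (29, 2), (66, 5), (10, 6)]),
    ([6, 6, 2], [(6, 0), (69, 0)], [(29, 1), (29, 0), (6, 1)]),
    ([6, 2, 0], [(29, 0), (27, 1), (13, 0), (63, 2), (65, 3)], [(13, 1), (27, 0), (69, 3), (42, 2), (29, 1), (77, 4)]),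
    ([6, 6, 3], [(6, 0), (70, 0)], [(30, 1), (30, 0), (73, 6), (63, 5), (54, 4), (46, 3), (39, 2), (6, 1), (74, 1), (77, 2), (11, 3), (65, 2), (10, 3), (76, 3), (77, 4), (11, 5), (10, 4), (74, 4), (55, 3), (47, 2), (7, 1), (75, 2), (65, 1), (77, 3), (10, 2), (11, 2), (75, 3), (56, 2), (8, 1), (76, 2), (66, 1), (11, 3), (66, 2), (9, 1), (10, 1)]),
    ([6, 3, 0], [(30, 0), (67, 6), (57, 5), (48, 4), (40, 3), (33, 2), (27, 1), (15, 0), (73, 3), (46, 2), (11, 5), (65, 4), (8, 3), (77, 4), (10, 3), (11, 3), (65, 5), (56, 4), (10, 6), (76, 6), (9, 5), (77, 5), (11, 6)], [(15, 1), (27, 0), (70, 3), (43, 2), (30, 1), (75, 7), (65, 6), (56, 5), (8, 4), (76, 5), (66, 4), (77, 6), (10, 5), (11, 5), (9, 4), (75, 5), (65, 4), (11, 6)]),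
    ([6, 3, 1], [(30, 0), (68, 6), (58, 5), (49, 4), (41, 3), (34, 2), (28, 1), (16, 0), (73, 6), (54, 5), (6, 4), (76, 4), (77, 5), (11, 6), (74, 6), (64, 5), (55, 4), (75, 7), (65, 6), (56, 5), (77, 8), (10, 7), (11, 7), (9, 6), (77, 6), (11, 7)], [(16, 1), (28, 0), (30, 1), (71, 7), (61, 6), (52, 5), (44, 4), (37, 3), (31, 2), (74, 5), (64, 4), (77, 6), (10, 5), (75, 5), (11, 6), (77, 8), (10, 7), (11, 7), (53, 6), (45, 5), (38, 4), (32, 3), (64, 5), (65, 6), (10, 7), (76, 7), (73, 8), (54, 7), (46, 6), (39, 5), (6, 4), (74, 4), (77, 5), (11, 6), (65, 5), (10, 6), (76, 6), (77, 7), (11, 8), (76, 8), (66, 7), (9, 6), (11, 7)]),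
    ([6, 3, 2], [(30, 0), (69, 6), (59, 5), (50, 4), (42, 3), (35, 2), (29, 1), (17, 0), (39, 3), (74, 6), (64, 5), (7, 4), (77, 5), (10, 4), (11, 4), (75, 4), (76, 5), (77, 6), (11, 7)], [(17, 1), (29, 0), (30, 1), (72, 7), (62, 6), (53, 5), (45, 4), (38, 3), (32, 2), (64, 4), (65, 5), (10, 6), (76, 6), (77, 7), (11, 8), (64, 7), (55, 6), (47, 5), (7, 4), (75, 5), (65, 4), (77, 6), (10, 5), (11, 5)]),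
    ([6, 4, 0], [(31, 0), (67, 3), (57, 2), (27, 1), (18, 0), (63, 6), (54, 5), (46, 4), (39, 3), (75, 6), (65, 5), (77, 7), (10, 6), (11, 6), (77, 8), (10, 7), (75, 7), (56, 6), (8, 5), (76, 6), (66, 5), (11, 7), (77, 7), (10, 6), (11, 6)], [(18, 1), (27, 0), (71, 3), (44, 2), (31, 1), (75, 4), (65, 3), (11, 5), (72, 5), (62, 4), (45, 3), (32, 2), (65, 4), (10, 5), (77, 5), (11, 6), (64, 5), (47, 4), (77, 7), (10, 6), (75, 6), (8, 5), (11, 6), (66, 5), (10, 6)]),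
    ([7, 3, 3], [(3, 1), (7, 0), (75, 1), (65, 0), (76, 2), (66, 1), (77, 3), (10, 2)], [(36, 0), (70, 3), (51, 2), (36, 1), (3, 0), (64, 3), (55, 2), (47, 1), (7, 0), (75, 1), (65, 0), (77, 2), (10, 1), (11, 1), (66, 2), (9, 1), (76, 2), (66, 1), (77, 3), (10, 2), (11, 2)]),
    ([8, 8, 0], [(8, 0), (67, 1), (57, 0)], [(40, 1), (40, 0), (75, 3), (65, 2), (8, 1), (77, 2), (10, 1), (11, 1)])]
  fuses := [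
    ⟨0, [0, 0], [], [(0, 0)], [], [(67, 5), (57, 4), (48, 3), (27, 2), (15, 1), (0, 0), (73, 2), (46, 1), (11, 4), (65, 3), (8, 2), (77, 3), (10, 2), (11, 2), (70, 4), (60, 3), (51, 2), (30, 1), (3, 0), (63, 3), (54, 2), (46, 1), (39, 0), (75, 3), (65, 2), (77, 4), (10, 3), (11, 3), (77, 5), (10, 4), (74, 4), (55, 3), (47, 2), (7, 1), (75, 2), (65, 1), (77, 3), (10, 2), (11, 2), (75, 3), (56, 2), (8, 1), (76, 2), (66, 1), (11, 3), (66, 2), (9, 1), (10, 1), (76, 1), (77, 2), (11, 3), (10, 2), (73, 2), (54, 1), (6, 0), (76, 0), (77, 1), (11, 2), (76, 2), (66, 1), (9, 0), (77, 1), (10, 0), (11, 0)], []⟩,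
    ⟨0, [1, 0], [0, 1, 8], [(13, 0)], [], [(40, 4), (33, 3), (18, 2), (15, 1), (0, 0), (71, 2), (44, 1), (11, 3), (45, 2), (74, 5), (64, 4), (47, 3), (77, 6), (10, 5), (11, 5), (8, 4), (76, 5), (66, 4), (77, 6), (10, 5), (74, 5), (55, 4), (7, 3), (76, 4), (66, 3), (11, 5), (66, 4), (9, 3), (10, 3), (70, 5), (60, 4), (43, 3), (25, 2), (21, 1), (3, 0), (61, 3), (52, 2), (44, 1), (37, 0), (65, 2), (76, 4), (66, 3), (77, 5), (10, 4), (11, 4), (64, 4), (55, 3), (47, 2), (7, 1), (75, 2), (65, 1), (77, 3), (10, 2), (11, 2), (65, 3), (56, 2), (8, 1), (76, 2), (66, 1), (77, 3), (10, 2), (77, 2), (11, 3), (62, 2), (53, 1), (66, 3), (9, 2), (65, 2), (66, 3), (10, 4), (73, 5), (63, 4), (54, 3), (46, 2), (76, 5), (66, 4), (77, 6), (10, 5), (11, 5), (76, 6), (66, 5), (9, 4), (77, 5), (10, 4), (11, 4)], [(67, 5),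 (57, 4), (48, 3), (27, 2), (15, 1), (0, 0), (73, 2), (46, 1), (11, 4), (65, 3), (8, 2), (77, 3), (10, 2), (11, 2), (70, 4), (60, 3), (51, 2), (30, 1), (3, 0), (63, 3), (54, 2), (46, 1), (39, 0), (75, 3), (65, 2), (77, 4), (10, 3), (11, 3), (77, 5), (10, 4), (74, 4), (55, 3), (47, 2), (7, 1), (75, 2), (65, 1), (77, 3), (10, 2), (11, 2), (75, 3), (56, 2), (8, 1), (76, 2), (66, 1), (11, 3), (66, 2), (9, 1), (10, 1), (76, 1), (77, 2), (11, 3), (10, 2), (71, 2), (52, 1), (31, 0), (76, 3), (66, 2), (77, 4), (10, 3), (11, 3), (74, 3), (55, 2), (75, 4), (56, 3), (72, 5), (53, 4), (45, 3), (38, 2), (32, 1), (64, 3), (65, 4), (10, 5), (76, 5), (11, 6), (55, 5), (47, 4), (7, 3), (75, 4), (65, 3), (77, 5), (10, 4), (11, 4), (9, 4)]⟩,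
    ⟨0, [3, 0], [0, 3, 4, 5, 7, 9], [(27, 1), (18, 0), (63, 6), (54, 5), (46, 4), (39, 3), (75, 6), (65, 5), (77, 7), (10, 6), (11, 6), (77, 8), (10, 7), (75, 7), (56, 6), (8, 5), (76, 6), (66, 5), (11, 7)], [(32, 2), (64, 4), (66, 5)], [(67, 5), (40, 4), (33, 3), (27, 2), (18, 1), (13, 0), (61, 2), (62, 3), (64, 4), (65, 5), (66, 6), (10, 7), (54, 6), (46, 5), (39, 4), (75, 7), (65, 6), (77, 8), (10, 7), (11, 7), (75, 9), (65, 8), (56, 7), (8, 6), (76, 7), (66, 6), (77, 8), (10, 7), (11, 7), (74, 7), (55, 6), (7, 5), (76, 6), (66, 5), (11, 7), (66, 6), (9, 5), (10, 5), (11, 7), (60, 6), (43, 5), (30, 4), (25, 3), (21, 2), (72, 7), (62, 6), (45, 5), (38, 4), (77, 8), (10, 7), (11, 7), (54, 7), (46, 6), (39, 5), (75, 8), (65, 7), (77, 9), (10, 8), (11, 8), (74, 10), (64, 9), (55, 8), (47, 7), (7, 6),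 (75, 7), (65, 6), (77, 8), (10, 7), (11, 7), (75, 9), (65, 8), (56, 7), (8, 6), (76, 7), (66, 6), (77, 8), (10, 7), (11, 7), (9, 6), (75, 7), (65, 6), (76, 8), (66, 7), (77, 9), (10, 8), (77, 8), (73, 9), (63, 8), (54, 7), (46, 6), (6, 5), (75, 5), (77, 6), (11, 7), (66, 6), (10, 7), (77, 7), (11, 8), (66, 7), (9, 6), (10, 6)], [(69, 5), (59, 4), (50, 3), (29, 2), (17, 1), (39, 4), (76, 7), (66, 6), (77, 8), (10, 7), (11, 7), (52, 6), (37, 5), (31, 4), (26, 3), (73, 6), (63, 5), (77, 7), (10, 6), (11, 6), (66, 7), (10, 8), (73, 8), (54, 7), (39, 6), (6, 5), (74, 5), (77, 6), (11, 7), (66, 6), (10, 7), (11, 7), (55, 6), (7, 5), (76, 6), (66, 5), (75, 7), (65, 6), (56, 5), (11, 8), (57, 7), (48, 6), (40, 5), (22, 4), (18, 3), (15, 2), (13, 1), (0, 0), (60, 1), (65, 2), (71, 4), (61, 3), (44, 2), (77,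 4), (11, 5), (62, 4), (45, 3), (77, 6), (10, 5), (74, 5), (47, 4), (11, 7), (65, 6), (8, 5), (77, 6), (10, 5), (76, 5), (77, 6), (72, 7), (62, 6), (53, 5), (38, 4), (5, 3), (74, 4), (64, 3), (76, 5), (66, 4), (77, 6), (10, 5), (11, 5), (9, 4), (65, 4), (10, 5), (76, 5), (77, 6), (72, 7), (62, 6), (53, 5), (45, 4), (38, 3), (76, 7), (66, 6), (77, 8), (10, 7), (11, 7), (9, 6), (40, 5), (33, 4), (22, 3), (18, 2), (15, 1), (13, 0), (60, 2), (65, 3), (71, 5), (61, 4), (44, 3), (77, 5), (11, 6), (62, 5), (45, 4), (77, 7), (10, 6), (74, 6), (47, 5), (11, 8), (65, 7), (8, 6), (77, 7), (10, 6), (76, 6), (77, 7), (72, 8), (62, 7), (53, 6), (38, 5), (5, 4), (74, 5), (64, 4), (76, 6), (66, 5), (77, 7), (10, 6), (11, 6), (9, 5), (64, 5), (7, 4), (77, 5), (10, 4), (76, 4), (77, 5), (75, 6), (65, 5), (56, 4), (77,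 7), (10, 6), (11, 6), (53, 5), (45, 4), (76, 7), (66, 6), (72, 8), (62, 7), (53, 6), (45, 5), (5, 4), (75, 5), (65, 4), (77, 6), (10, 5), (11, 5), (74, 7), (64, 6), (55, 5), (47, 4), (76, 7), (66, 6), (77, 8), (10, 7), (11, 7), (9, 6), (72, 7), (62, 6), (45, 5), (38, 4), (77, 8), (10, 7), (11, 7), (47, 6), (7, 5), (75, 6), (65, 5), (77, 7), (10, 6), (11, 6)]⟩,
    ⟨0, [4, 0], [0, 4, 7, 8], [(22, 0)], [], [(48, 2), (22, 1), (0, 0), (66, 2), (9, 1), (60, 1), (25, 0), (63, 3), (54, 2), (77, 5), (10, 4), (76, 4), (9, 3), (77, 3), (11, 4)], [(67, 5), (57, 4), (48, 3), (27, 2), (15, 1), (0, 0), (73, 2), (46, 1), (11, 4), (65, 3), (8, 2), (77, 3), (10, 2), (11, 2), (72, 4), (62, 3), (53, 2), (32, 1), (66, 3), (10, 4), (76, 4), (9, 3), (72, 3), (32, 2), (5, 1), (73, 2), (63, 1), (77, 3), (10, 2), (11, 2),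 (72, 5), (62, 4), (53, 3), (38, 2), (32, 1), (64, 3), (66, 4), (10, 5), (74, 5), (55, 4), (7, 3), (76, 4), (66, 3), (11, 5), (66, 4), (9, 3)]⟩,
    ⟨0, [6, 0], [0, 6, 8, 9], [(40, 0)], [], [(40, 2), (27, 1), (15, 0), (73, 3), (46, 2), (11, 5), (65, 4), (8, 3), (77, 4), (10, 3), (11, 3), (70, 5), (60, 4), (43, 3), (30, 2), (3, 1), (63, 4), (54, 3), (46, 2), (39, 1), (75, 4), (65, 3), (77, 5), (10, 4), (11, 4), (77, 6), (10, 5), (74, 5), (55, 4), (47, 3), (7, 2), (75, 3), (65, 2), (77, 4), (10, 3), (11, 3), (75, 4), (56, 3), (8, 2), (76, 3), (66, 2), (11, 4), (66, 3), (9, 2), (10, 2), (75, 2), (76, 3), (77, 4), (77, 5), (10, 4), (11, 4), (54, 3), (46, 2), (6, 1), (75, 1), (77, 2), (11, 3), (66, 2), (10, 3), (76, 3), (9, 2), (77, 2), (11, 3)], [(70, 5), (60, 4), (51, 3), (30, 2), (3, 1), (63, 4), (54,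 3), (46, 2), (39, 1), (75, 4), (65, 3), (77, 5), (10, 4), (11, 4), (77, 6), (10, 5), (74, 5), (55, 4), (47, 3), (7, 2), (75, 3), (65, 2), (77, 4), (10, 3), (11, 3), (75, 4), (56, 3), (8, 2), (76, 3), (66, 2), (11, 4), (66, 3), (9, 2), (10, 2), (76, 2), (77, 3), (11, 4), (10, 3), (73, 3), (54, 2), (6, 1), (76, 1), (77, 2), (11, 3), (75, 3), (65, 2), (56, 1), (72, 4), (62, 3), (53, 2), (45, 1), (76, 4), (66, 3), (77, 5), (10, 4), (11, 4), (55, 3), (47, 2), (76, 5), (66, 4), (76, 6), (66, 5), (9, 4), (72, 5), (62, 4), (45, 3), (38, 2), (5, 1), (74, 2), (64, 1), (75, 3), (65, 2), (77, 4), (10, 3), (11, 3), (74, 4), (64, 3), (47, 2), (7, 1), (75, 2), (65, 1), (77, 3), (10, 2), (11, 2), (11, 3)]⟩,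
    ⟨0, [1, 1], [8], [(2, 0)], [], [(40, 4), (33, 3), (18, 2), (15, 1), (0, 0), (71, 2), (44, 1), (11, 3), (45, 2), (74, 5), (64, 4), (47, 3), (77, 6), (10, 5), (11, 5), (8, 4), (76, 5), (66, 4), (77, 6), (10, 5), (74, 5), (55, 4), (7, 3), (76, 4), (66, 3), (11, 5), (66, 4), (9, 3), (10, 3), (70, 5), (60, 4), (43, 3), (25, 2), (21, 1), (3, 0), (61, 3), (52, 2), (44, 1), (37, 0), (65, 2), (76, 4), (66, 3), (77, 5), (10, 4), (11, 4), (64, 4), (55, 3), (47, 2), (7, 1), (75, 2), (65, 1), (77, 3), (10, 2), (11, 2), (65, 3), (56, 2), (8, 1), (76, 2), (66, 1), (77, 3), (10, 2), (77, 2), (11, 3), (62, 2), (53, 1), (66, 3), (9, 2), (65, 2), (66, 3), (10, 4), (71, 5), (61, 4), (52, 3), (44, 2), (26, 1), (4, 0), (62, 0), (10, 1), (75, 1), (11, 2), (77, 4), (10, 3), (11, 3), (55, 2), (47, 1), (76, 4), (66, 3),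 (75, 5), (65, 4), (56, 3), (8, 2), (76, 3), (66, 2), (77, 4), (10, 3), (11, 3)], []⟩,
    ⟨0, [2, 1], [1, 2, 4, 5, 9], [(29, 1), (17, 0), (39, 3)], [(32, 2), (64, 4)], [(48, 3), (33, 2), (22, 1), (0, 0), (64, 2), (55, 1), (66, 3), (9, 2), (10, 2), (51, 2), (36, 1), (25, 0), (55, 2), (9, 3), (76, 3), (77, 4), (11, 5), (61, 4), (52, 3), (37, 2), (26, 1), (74, 4), (64, 3), (77, 5), (10, 4), (76, 4), (77, 5), (11, 6), (10, 5), (55, 4), (7, 3), (76, 4), (66, 3), (75, 5), (65, 4), (56, 3)], [(40, 4), (33, 3), (18, 2), (15, 1), (0, 0), (71, 2), (44, 1), (11, 3), (45, 2), (74, 5), (64, 4), (47, 3), (77, 6), (10, 5), (11, 5), (8, 4), (76, 5), (66, 4), (77, 6), (10, 5), (74, 5), (55, 4), (7, 3), (76, 4), (66, 3), (11, 5), (66, 4), (9, 3), (10, 3), (72, 5), (62, 4), (45, 3), (5, 2), (75, 3), (65, 2), (77, 4),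 (10, 3), (11, 3), (74, 4), (64, 3), (47, 2), (77, 5), (10, 4), (11, 4), (48, 4), (40, 3), (33, 2), (18, 1), (15, 0), (71, 3), (44, 2), (11, 4), (45, 3), (74, 6), (64, 5), (47, 4), (77, 7), (10, 6), (11, 6), (8, 5), (76, 6), (66, 5), (77, 7), (10, 6), (74, 6), (55, 5), (7, 4), (76, 5), (66, 4), (11, 6), (66, 5), (9, 4), (10, 4), (76, 6), (66, 5), (72, 7), (62, 6), (53, 5), (45, 4), (5, 3), (75, 4), (65, 3), (77, 5), (10, 4), (11, 4), (76, 6), (66, 5), (9, 4), (67, 5), (57, 4), (40, 3), (18, 2), (15, 1), (0, 0), (71, 2), (44, 1), (11, 3), (45, 2), (74, 5), (64, 4), (47, 3), (77, 6), (10, 5), (11, 5), (8, 4), (76, 5), (66, 4), (77, 6), (10, 5), (75, 5), (56, 4), (77, 6), (11, 7), (10, 6), (72, 6), (53, 5), (45, 4), (38, 3), (5, 2), (74, 3), (64, 2), (75, 4), (65, 3), (77, 5), (10, 4), (11, 4), (72, 5),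 (53, 4), (45, 3), (38, 2), (76, 6), (66, 5), (11, 7), (64, 6), (55, 5), (47, 4), (7, 3), (75, 4), (65, 3), (77, 5), (10, 4), (11, 4)]⟩,
    ⟨0, [3, 1], [1, 3, 8, 9], [(29, 1), (20, 0), (73, 3), (63, 2)], [], [(67, 5), (40, 4), (33, 3), (27, 2), (18, 1), (13, 0), (61, 2), (62, 3), (64, 4), (65, 5), (66, 6), (10, 7), (54, 6), (46, 5), (39, 4), (75, 7), (65, 6), (77, 8), (10, 7), (11, 7), (75, 9), (65, 8), (56, 7), (8, 6), (76, 7), (66, 6), (77, 8), (10, 7), (11, 7), (74, 7), (55, 6), (7, 5), (76, 6), (66, 5), (11, 7), (66, 6), (9, 5), (10, 5), (11, 7), (60, 6), (43, 5), (30, 4), (25, 3), (21, 2), (72, 7), (62, 6), (45, 5), (38, 4), (77, 8), (10, 7), (11, 7), (54, 7), (46, 6), (39, 5), (75, 8), (65, 7), (77, 9), (10, 8), (11, 8), (74, 10), (64, 9), (55, 8), (47, 7), (7, 6), (75, 7), (65, 6), (77, 8),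 (10, 7), (11, 7), (75, 9), (65, 8), (56, 7), (8, 6), (76, 7), (66, 6), (77, 8), (10, 7), (11, 7), (9, 6), (75, 7), (65, 6), (76, 8), (66, 7), (77, 9), (10, 8), (77, 8), (71, 9), (61, 8), (52, 7), (44, 6), (31, 5), (26, 4), (4, 3), (62, 3), (10, 4), (73, 4), (77, 5), (11, 6), (65, 5), (76, 7), (66, 6), (77, 8), (10, 7), (11, 7), (74, 8), (64, 7), (55, 6), (47, 5), (76, 8), (66, 7), (77, 9), (10, 8), (11, 8), (56, 7), (8, 6), (76, 7), (66, 6)], [(42, 4), (35, 3), (20, 2), (17, 1), (37, 4), (26, 3), (74, 6), (64, 5), (77, 7), (10, 6), (77, 6), (11, 7), (64, 6), (7, 5), (77, 6), (10, 5), (11, 5), (44, 5), (26, 4), (4, 3), (62, 3), (10, 4), (75, 4), (11, 5), (46, 4), (74, 7), (64, 6), (47, 5), (77, 8), (10, 7), (11, 7), (8, 6), (11, 7), (62, 6), (38, 5), (32, 4), (5, 3), (73, 4), (63, 3), (77, 5), (10,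 4), (74, 4), (77, 5), (74, 6), (64, 5), (7, 4), (77, 5), (10, 4), (11, 4), (53, 4), (32, 3), (66, 5), (64, 6), (55, 5)]⟩,
    ⟨0, [4, 1], [1, 4, 9], [(24, 0)], [], [(48, 2), (22, 1), (0, 0), (66, 2), (9, 1), (60, 1), (25, 0), (61, 3), (52, 2), (26, 1), (76, 4), (66, 3), (77, 5), (10, 4), (11, 4), (64, 4), (55, 3), (65, 5), (56, 4)], [(40, 4), (33, 3), (18, 2), (15, 1), (0, 0), (71, 2), (44, 1), (11, 3), (45, 2), (74, 5), (64, 4), (47, 3), (77, 6), (10, 5), (11, 5), (8, 4), (76, 5), (66, 4), (77, 6), (10, 5), (74, 5), (55, 4), (7, 3), (76, 4), (66, 3), (11, 5), (66, 4), (9, 3), (10, 3), (72, 5), (62, 4), (45, 3), (5, 2), (75, 3), (65, 2), (77, 4), (10, 3), (11, 3), (76, 4), (66, 3), (72, 5), (62, 4), (53, 3), (45, 2), (76, 5), (66, 4), (77, 6), (10, 5), (11, 5), (55, 4), (47, 3), (76, 6), (66, 5),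 (11, 7)]⟩,
    ⟨0, [6, 1], [1, 6], [(42, 0)], [], [(40, 2), (27, 1), (15, 0), (73, 3), (46, 2), (11, 5), (65, 4), (8, 3), (77, 4), (10, 3), (11, 3), (70, 5), (60, 4), (43, 3), (30, 2), (3, 1), (63, 4), (54, 3), (46, 2), (39, 1), (75, 4), (65, 3), (77, 5), (10, 4), (11, 4), (77, 6), (10, 5), (74, 5), (55, 4), (47, 3), (7, 2), (75, 3), (65, 2), (77, 4), (10, 3), (11, 3), (75, 4), (56, 3), (8, 2), (76, 3), (66, 2), (11, 4), (66, 3), (9, 2), (10, 2), (75, 2), (76, 3), (77, 4), (77, 5), (10, 4), (11, 4), (52, 3), (44, 2), (31, 1), (75, 4), (65, 3), (11, 5), (66, 4), (10, 5), (74, 5), (55, 4), (47, 3), (76, 6), (66, 5), (11, 7), (65, 6), (56, 5), (8, 4), (76, 5), (66, 4), (77, 6), (10, 5)], [(43, 4), (36, 3), (21, 2), (3, 1), (61, 4), (52, 3), (44, 2), (37, 1), (65, 3), (76, 5), (66, 4), (77, 6), (10, 5),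 (11, 5), (64, 5), (55, 4), (47, 3), (7, 2), (75, 3), (65, 2), (77, 4), (10, 3), (11, 3), (65, 4), (56, 3), (8, 2), (76, 3), (66, 2), (77, 4), (10, 3), (77, 3), (11, 4), (64, 3), (55, 2), (66, 4), (9, 3), (75, 4), (65, 3), (76, 5), (66, 4), (77, 6), (10, 5), (73, 5), (54, 4), (46, 3), (39, 2), (75, 5), (65, 4), (77, 6), (10, 5), (11, 5), (11, 7), (65, 6), (56, 5), (8, 4), (76, 5), (66, 4), (77, 6), (10, 5)]⟩,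
    ⟨0, [4, 2], [2, 4, 7, 9], [(25, 0), (54, 2)], [(32, 1), (66, 3)], [(48, 2), (22, 1), (0, 0), (66, 2), (9, 1), (62, 1), (5, 0), (77, 1), (10, 0), (74, 0), (76, 1)], [(48, 3), (33, 2), (22, 1), (0, 0), (64, 2), (55, 1), (66, 3), (9, 2), (10, 2), (53, 2), (38, 1), (5, 0), (74, 1), (64, 0), (76, 2), (66, 1), (76, 3), (66, 2), (9, 1), (72, 2), (62, 1), (38, 0), (74, 3), (64, 2), (7, 1), (77, 2), (10, 1), (11, 1), (72, 3), (62, 2), (53, 1), (5, 0), (76, 1), (66, 0), (77, 2), (10, 1), (11, 1), (55, 0)]⟩,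
    ⟨1, [1, 0], [0, 1], [(49, 3), (41, 2), (28, 1), (14, 0), (73, 3), (63, 2), (75, 4), (65, 3), (77, 5), (10, 4), (11, 4), (74, 5), (55, 4), (47, 3), (76, 6), (66, 5), (11, 7)], [(35, 1), (73, 3), (39, 2), (11, 5), (65, 4), (66, 5)], [(68, 7), (58, 6), (41, 5), (28, 4), (23, 3), (19, 2), (14, 1), (1, 0), (69, 1), (59, 0), (77, 2), (10, 1), (11, 1), (72, 2), (77, 3), (73, 4), (63, 3), (75, 5), (65, 4), (77, 6), (10, 5), (11, 5), (74, 6), (64, 5), (47, 4), (77, 7), (10, 6), (11, 6)], [(34, 1), (1, 0), (74, 1), (64, 0), (69, 2), (59, 1), (35, 0), (77, 2), (11, 3), (61, 2), (37, 1), (10, 3), (38, 2), (39, 3), (75, 6), (65, 5), (77, 7), (10, 6), (11, 6)]⟩,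
    ⟨1, [4, 0], [0, 4], [(58, 0), (64, 1)], [], [(34, 3), (23, 2), (14, 1), (1, 0), (69, 1), (59, 0), (77, 2), (10, 1), (11, 1), (64, 2), (64, 3), (7, 2), (77, 3), (10, 2)], [(34, 1), (1, 0), (74, 1), (64, 0), (69, 2), (59, 1), (35, 0), (77, 2), (11, 3), (62, 2), (38, 1), (64, 3), (7, 2), (77, 3), (10, 2)]⟩,
    ⟨1, [1, 1], [], [(50, 3), (42, 2), (29, 1), (2, 0), (63, 0), (65, 1), (66, 2), (63, 3), (54, 2), (46, 1), (6, 0), (75, 0), (77, 1), (11, 2), (66, 1), (10, 2), (77, 2), (75, 3), (65, 2), (56, 1), (8, 0), (76, 1), (66, 0), (77, 2), (10, 1), (11, 1), (9, 0)], [], [(68, 7), (58, 6), (41, 5), (28, 4), (23, 3), (19, 2), (14, 1), (1, 0), (69, 1), (59, 0), (77, 2), (10, 1), (11, 1), (72, 2), (77, 3), (73, 4), (63, 3), (75, 5), (65, 4), (77, 6), (10, 5), (11, 5), (69, 6), (59, 5), (42, 4), (29, 3),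 (24, 2), (20, 1), (2, 0), (61, 0), (10, 1), (72, 1), (11, 2), (71, 5), (61, 4), (44, 3), (31, 2), (26, 1), (4, 0), (62, 0), (10, 1), (73, 1), (77, 2), (11, 3), (65, 2), (77, 4), (10, 3), (11, 3), (45, 2), (32, 1), (5, 0), (73, 1), (63, 0), (77, 2), (10, 1), (75, 1), (77, 2), (11, 3), (63, 2), (46, 1), (6, 0), (75, 0), (77, 1), (11, 2), (10, 1), (8, 0), (77, 1), (10, 0), (11, 0)], []⟩,
    ⟨1, [2, 1], [1, 2], [(42, 3), (35, 2), (29, 1), (20, 0), (73, 3), (63, 2), (74, 4), (64, 3), (11, 5), (65, 4), (63, 5), (46, 4), (39, 3), (6, 2), (74, 2), (77, 3), (11, 4), (65, 3), (10, 4), (77, 4), (75, 5), (65, 4), (8, 3), (77, 4), (10, 3), (11, 3)], [(52, 3), (44, 2), (31, 1), (75, 4), (65, 3), (11, 5), (66, 4), (10, 5), (73, 5), (54, 4), (46, 3), (6, 2), (75, 2), (77, 3), (11, 4), (66, 3), (10, 4), (11, 4),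 (55, 3), (47, 2), (76, 5), (66, 4), (75, 6), (65, 5), (56, 4), (8, 3), (76, 4), (66, 3), (77, 5), (10, 4), (11, 4)], [(68, 7), (58, 6), (49, 5), (41, 4), (34, 3), (28, 2), (23, 1), (1, 0), (72, 1), (62, 0), (77, 2), (10, 1), (73, 1), (74, 2), (75, 3), (77, 4), (11, 5), (66, 4), (77, 6), (10, 5), (11, 5), (50, 4), (42, 3), (35, 2), (29, 1), (24, 0), (73, 2), (74, 3), (11, 4), (52, 5), (44, 4), (37, 3), (31, 2), (26, 1), (73, 4), (63, 3), (77, 5), (10, 4), (11, 4), (65, 5), (76, 7), (66, 6), (77, 8), (10, 7), (11, 7), (53, 6), (45, 5), (38, 4), (32, 3), (5, 2), (73, 3), (63, 2), (77, 4), (10, 3), (74, 3), (75, 4), (77, 5), (11, 6), (66, 5), (63, 6), (54, 5), (46, 4), (39, 3), (6, 2), (74, 2), (77, 3), (11, 4), (65, 3), (10, 4), (76, 4), (77, 5), (11, 6), (10, 5), (56, 4), (8, 3), (76, 4), (66, 3), (77,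 5), (10, 4), (11, 4)], [(68, 7), (58, 6), (41, 5), (28, 4), (23, 3), (19, 2), (14, 1), (1, 0), (69, 1), (59, 0), (77, 2), (10, 1), (11, 1), (72, 2), (77, 3), (73, 4), (63, 3), (75, 5), (65, 4), (77, 6), (10, 5), (11, 5), (72, 6), (62, 5), (45, 4), (32, 3), (5, 2), (73, 3), (63, 2), (77, 4), (10, 3), (75, 3), (77, 4), (11, 5), (10, 4), (73, 4), (46, 3), (6, 2), (75, 2), (77, 3), (11, 4), (74, 4), (64, 3), (47, 2), (77, 5), (10, 4), (11, 4), (8, 3), (76, 4), (66, 3), (77, 5), (10, 4), (11, 4)]⟩,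
    ⟨1, [4, 4], [], [(10, 0)], [], [(34, 3), (23, 2), (14, 1), (1, 0), (69, 1), (59, 0), (77, 2), (10, 1), (11, 1), (64, 2), (59, 3), (35, 2), (24, 1), (2, 0), (62, 0), (74, 2), (64, 1), (11, 3), (10, 2), (38, 1), (5, 0), (74, 1), (64, 0), (74, 2), (64, 1), (7, 0), (77, 1), (10, 0), (11, 0)], []⟩]
  adj := [
    [(2, 3), (12, 3), (16, 3), (18, 3), (78, 3), (79, 3)],
    [(0, 3), (1, 3), (12, 3), (15, 3), (18, 3), (94, 3)],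
    [(0, 2), (1, 3), (2, 3), (12, 1), (15, 1), (17, 3), (18, 3), (94, 2)],
    [(1, 3), (2, 3), (12, 3), (16, 3), (17, 3), (78, 3), (91, 3), (94, 3)],
    [(1, 3), (3, 1), (12, 1), (17, 1), (18, 1), (78, 2), (91, 3), (94, 3)],
    [(1, 2), (2, 2), (3, 3), (12, 2), (16, 2), (17, 2), (18, 1), (78, 2), (91, 2), (94, 2)],
    [(1, 3), (2, 3), (12, 3), (15, 3), (16, 3), (18, 3), (91, 3), (94, 3)],
    [(1, 2), (2, 2), (3, 1), (12, 2), (16, 2), (17, 3), (18, 3), (78, 2), (91, 2), (94, 2)],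
    [(0, 2), (1, 3), (2, 3), (15, 1), (17, 2), (94, 2)],
    [(0, 2), (1, 3), (2, 2), (12, 2), (15, 1), (17, 3), (18, 3), (94, 2)],
    [(1, 2), (2, 3), (12, 2), (15, 2), (17, 2), (18, 2)],
    [(0, 2), (1, 1), (2, 1), (17, 2), (94, 2)]]
  base := [
    ([(28, 1)], 2, [(0, 1), (4, 2), (5, 2), (6, 1), (11, 2), (12, 2), (13, 2), (16, 2), (18, 3), (21, 2), (22, 2), (23, 2), (24, 1), (25, 2), (26, 2), (29, 2), (31, 2), (32, 2), (33, 2), (34, 2), (35, 2), (36, 2), (38, 2), (39, 2), (40, 2), (41, 2), (42, 2), (43, 2), (44, 2), (47, 2), (50, 2), (52, 2), (54, 2), (55, 2), (60, 2), (62, 2), (64, 2), (65, 2), (66, 2), (67, 2), (68, 2), (72, 2)])]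
  dense := [
    [0, 0, 0, 0, 0, 0, 0, 0, 0, 0, 0, 0, 0, 0, 0, 0, 0, 0, 0, 0, 0, 0, 0, 0, 0, 0, 0, 0, 0, 0, 0, 0, 0, 0, 0, 0, 0, 0, 0, 0, 0, 0, 0, 0, 0, 0, 0, 0, 0, 0, 0, 0, 0, 0, 0, 0, 0, 0, 1, 0, 0, 0, 0, 0, 0, 0, 0, 0, 1],
    [0, 0, 3, 0, 0, 0, 0, 0, 0, 3, 2, 3, 2, 0, 3, 0, 0, 0, 0, 0, 0, 0, 0, 0, 0, 0, 0, 0, 0, 0, 0, 0, 0, 0, 0, 0, 0, 0, 0, 0, 0, 0, 0, 0, 0, 0, 0, 0, 0, 3, 3, 0, 0, 0, 0, 0, 0, 1, 3, 2, 0, 0, 0, 0, 0, 0, 3, 1, 0, 2, 0, 0, 0, 0, 0, 0, 3, 1],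
    [0, 0, 3, 0, 0, 0, 0, 0, 0, 3, 2, 0, 2, 3, 0, 0, 0, 0, 0, 0, 0, 0, 0, 0, 0, 0, 0, 0, 0, 0, 0, 0, 0, 0, 0, 0, 0, 0, 0, 0, 0, 0, 0, 0, 0, 0, 0, 0, 3, 0, 3, 0, 0, 0, 0, 0, 0, 3, 0, 3, 0, 0, 0, 0, 0, 0, 2],
    [0, 0, 0, 0, 0, 0, 0, 0, 0, 0, 0, 0, 0, 0, 0, 0, 0, 0, 0, 0, 0, 0, 0, 0, 0, 0, 0, 0, 0, 0, 0, 0, 0, 0, 0, 0, 0, 0, 0, 0, 0, 0, 0, 0, 0, 0, 0, 0, 0, 0, 0, 0, 0, 0, 0, 0, 0, 0, 0, 1],
    [0, 0, 0, 0, 0, 0, 0, 0, 0, 0, 3, 0, 0, 2, 0, 0, 0, 0, 0, 0, 0, 0, 0, 0, 0, 0, 0, 0, 0, 0, 0, 0, 0, 0, 0, 0, 0, 0, 0, 0, 0, 0, 0, 0, 0, 0, 0, 0, 0, 0, 0, 0, 0, 0, 0, 0, 0, 1, 0, 3],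
    [0, 0, 0, 0, 0, 0, 0, 0, 0, 0, 3, 3, 0, 0, 2, 0, 0, 0, 0, 0, 0, 0, 0, 0, 0, 0, 0, 0, 0, 0, 0, 0, 0, 0, 0, 0, 0, 0, 0, 0, 0, 0, 0, 0, 0, 0, 0, 0, 0, 0, 0, 0, 0, 0, 0, 0, 0, 0, 1, 3, 0, 0, 0, 0, 0, 0, 0, 0, 0, 3, 0, 0, 0, 0, 0, 0, 0, 3],
    [0, 0, 0, 0, 0, 0, 0, 0, 0, 0, 3, 3, 0, 0, 2, 0, 0, 0, 0, 0, 0, 0, 0, 0, 0, 0, 0, 0, 0, 0, 0, 0, 0, 0, 0, 0, 0, 0, 0, 0, 0, 0, 0, 0, 0, 0, 0, 0, 0, 0, 0, 0, 0, 0, 0, 0, 0, 0, 3, 3, 0, 0, 0, 0, 0, 0, 0, 0, 3, 3, 0, 0, 0, 0, 0, 0, 0, 3],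
    [0, 0, 0, 0, 0, 0, 0, 0, 0, 0, 0, 0, 0, 0, 0, 0, 0, 0, 0, 0, 0, 0, 0, 0, 0, 0, 0, 0, 0, 0, 0, 0, 0, 0, 0, 0, 0, 0, 0, 0, 0, 0, 0, 0, 0, 0, 0, 0, 0, 0, 1, 0, 0, 0, 0, 0, 0, 1, 3, 1, 0, 0, 0, 0, 0, 0, 0, 1, 0, 3, 0, 0, 0, 0, 0, 0, 3, 2],
    [0, 0, 0, 0, 0, 0, 0, 0, 0, 1, 1, 1, 0, 0, 0, 0, 0, 0, 0, 0, 0, 0, 0, 0, 0, 0, 0, 0, 0, 0, 0, 0, 0, 0, 0, 0, 1, 0, 0, 0, 0, 0, 0, 1, 0, 0, 0, 0, 0, 0, 0, 1, 0, 0, 0, 0, 1, 0, 0, 0, 1, 0, 0, 0, 0, 0, 1, 0, 0, 0, 0, 0, 0, 0, 0, 1, 2, 2],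
    [0, 0, 0, 0, 0, 0, 0, 0, 3, 0, 0, 3, 0, 0, 0, 2, 0, 0, 0, 0, 0, 0, 0, 0, 0, 0, 0, 0, 0, 0, 0, 0, 0, 1, 0, 0, 0, 0, 0, 0, 1, 0, 0, 3, 0, 0, 0, 0, 1, 0, 0, 0, 0, 0, 0, 0, 0, 1, 0, 0, 0, 0, 0, 0, 0, 3, 3, 0, 0, 0, 3, 0, 0, 0, 0, 0, 3, 3],
    [0, 0, 0, 0, 0, 0, 0, 0, 3, 0, 3, 2, 0, 0, 0, 2, 0, 0, 0, 0, 0, 0, 0, 0, 0, 0, 0, 0, 0, 0, 0, 0, 0, 0, 0, 0, 0, 0, 0, 0, 3, 0, 0, 0, 0, 0, 0, 0, 0, 0, 0, 0, 0, 0, 0, 0, 0, 0, 0, 0, 0, 0, 0, 0, 0, 0, 0, 3, 0, 0, 0, 0, 0, 0, 0, 3],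
    [0, 0, 0, 0, 3, 3, 3, 3, 3, 2, 0, 0, 0, 0, 0, 0, 2, 0, 0, 0, 0, 3, 0, 0, 0, 3, 3, 0, 0, 0, 3, 3, 3, 0, 1, 0, 0, 2, 3, 3, 0, 1, 0, 0, 2, 3, 3, 3, 0, 1, 0, 3, 3, 3, 0, 3, 3, 0, 1, 0, 0, 2, 1, 2, 1, 3, 1, 0, 0, 0, 3, 3, 0, 2, 2, 2, 1, 2],
    [0, 0, 0, 0, 3, 3, 3, 0, 0, 3, 0, 3, 0, 0, 0, 0, 2, 0, 0, 3, 0, 0, 0, 3, 0, 0, 3, 0, 3, 0, 0, 3, 3, 0, 0, 0, 0, 0, 0, 0, 0, 0, 0, 0, 0, 0, 0, 0, 0, 3, 0, 0, 3, 3, 3, 0, 0, 0, 0, 0, 3, 2, 1, 2, 0, 0, 1, 0, 3, 0, 3, 3, 3, 0, 0, 0, 0, 2],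
    [0, 0, 0, 0, 0, 0, 0, 0, 1, 1, 2, 2, 0, 0, 0, 0, 0, 3, 1, 0, 3, 0, 1, 0, 3, 0, 3, 1, 0, 3, 0, 0, 0, 0, 0, 0, 0, 3, 0, 0, 0, 3, 3, 0, 1, 1, 0, 1, 1, 0, 3, 1, 1, 1, 1, 1, 2, 0, 0, 3, 1, 0, 1, 1, 3, 1, 0, 1, 3, 3, 0, 0, 1, 0, 0, 3, 2, 2],
    [0, 0, 0, 0, 0, 3, 0, 3, 0, 3, 1, 1, 0, 0, 0, 0, 0, 2, 0, 0, 0, 0, 0, 0, 0, 3, 0, 0, 0, 0, 0, 0, 0, 0, 0, 1, 3, 0, 3, 0, 0, 0, 1, 0, 0, 2, 0, 2, 0, 0, 1, 0, 0, 2, 0, 3, 0, 0, 0, 1, 0, 0, 3, 0, 0, 2, 2, 0, 0, 0, 0, 0, 0, 0, 3, 3, 1, 2],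
    [0, 0, 0, 0, 0, 3, 0, 3, 0, 0, 3, 2, 0, 0, 0, 0, 0, 2, 0, 0, 0, 0, 0, 0, 3, 0, 0, 0, 0, 0, 0, 0, 0, 0, 0, 3, 0, 0, 3, 0, 0, 0, 0, 0, 0, 0, 0, 0, 0, 0, 0, 0, 0, 0, 0, 0, 0, 0, 0, 0, 3, 0, 2, 0, 2, 0, 0, 0, 0, 0, 0, 0, 0, 0, 3, 0, 0, 3],
    [0, 0, 0, 0, 0, 0, 0, 0, 0, 1, 2, 1, 0, 0, 0, 0, 0, 0, 0, 0, 0, 0, 1, 0, 0, 0, 0, 0, 0, 0, 0, 0, 0, 1, 0, 0, 0, 0, 0, 0, 0, 0, 3, 0, 0, 1, 0, 1, 0, 0, 0, 0, 0, 0, 0, 1, 0, 0, 0, 0, 1, 0, 1, 0, 1, 1, 1, 0, 0, 3, 0, 0, 1, 0, 0, 0, 2, 2],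
    [0, 0, 0, 0, 0, 0, 0, 0, 0, 0, 3, 2, 0, 0, 0, 0, 0, 0, 0, 0, 3, 0, 0, 1, 3, 0, 3, 0, 0, 3, 0, 0, 1, 0, 1, 0, 0, 3, 3, 3, 0, 0, 0, 0, 0, 0, 0, 0, 0, 0, 3, 0, 0, 1, 0, 1, 0, 0, 0, 0, 1, 1, 1, 2, 2, 0, 0, 0, 0, 3, 1, 1, 1, 2, 3, 0, 1],
    [0, 0, 0, 0, 0, 0, 0, 0, 0, 0, 0, 0, 0, 0, 0, 0, 0, 0, 0, 0, 0, 0, 0, 0, 0, 0, 0, 0, 0, 0, 0, 0, 0, 0, 0, 0, 0, 0, 0, 0, 0, 0, 0, 0, 0, 0, 0, 0, 0, 0, 0, 0, 0, 0, 0, 0, 0, 0, 0, 0, 0, 1],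
    [0, 0, 0, 0, 0, 3, 0, 3, 3, 3, 3, 0, 0, 0, 0, 0, 0, 0, 2, 0, 0, 0, 0, 0, 0, 0, 3, 0, 0, 0, 0, 0, 0, 0, 0, 0, 0, 3, 3, 0, 0, 0, 0, 0, 3, 3, 0, 3, 0, 0, 0, 0, 3, 3, 0, 3, 3, 1, 0, 0, 0, 3, 2, 0, 2, 0, 2, 0, 0, 0, 0, 0, 3, 0, 1, 0, 3, 3],
    [0, 0, 0, 0, 0, 3, 0, 3, 3, 2, 3, 1, 0, 0, 0, 0, 0, 0, 2, 0, 0, 0, 3, 0, 0, 0, 0, 0, 0, 0, 0, 0, 0, 3, 0, 0, 0, 0, 3, 0, 3, 0, 0, 0, 0, 3, 0, 3, 3, 0, 0, 0, 0, 3, 0, 0, 3, 3, 0, 0, 0, 0, 3, 0, 3, 1, 1, 0, 0, 0, 0, 0, 0, 0, 3, 2, 3],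
    [0, 0, 0, 0, 0, 0, 0, 0, 0, 0, 0, 3, 0, 0, 0, 0, 0, 0, 0, 2, 0, 0, 0, 0, 0, 0, 0, 0, 0, 0, 0, 0, 0, 0, 0, 0, 0, 0, 0, 0, 0, 0, 0, 0, 0, 0, 0, 0, 0, 0, 0, 0, 0, 0, 0, 0, 0, 0, 1, 0, 0, 0, 0, 0, 0, 0, 0, 0, 0, 0, 0, 3],
    [0, 0, 0, 0, 0, 0, 0, 0, 0, 0, 3, 2, 0, 0, 0, 0, 0, 0, 0, 0, 3, 0, 0, 3, 3, 0, 0, 0, 0, 0, 0, 0, 0, 0, 3, 3, 0, 0, 0, 0, 0, 3, 3, 0, 0, 0, 0, 0, 0, 3, 3, 0, 1, 1, 0, 1, 1, 0, 3, 3, 0, 1, 3, 0, 2, 2, 3, 1, 0, 3, 0, 0, 3, 0, 0, 3, 0, 2],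
    [0, 0, 0, 0, 0, 0, 0, 0, 0, 0, 3, 3, 0, 0, 0, 0, 0, 0, 0, 0, 2, 0, 0, 0, 0, 0, 0, 0, 0, 0, 0, 0, 0, 0, 0, 0, 0, 0, 0, 0, 0, 0, 0, 0, 0, 0, 0, 0, 0, 0, 0, 0, 0, 0, 0, 0, 0, 0, 0, 1, 0, 3, 0, 0, 0, 0, 0, 0, 0, 0, 0, 3, 0, 0, 0, 0, 0, 3],
    [0, 0, 0, 0, 0, 0, 0, 0, 0, 0, 3, 3, 0, 0, 0, 0, 0, 0, 0, 0, 2, 0, 0, 0, 0, 0, 0, 0, 0, 0, 0, 0, 0, 0, 0, 0, 0, 0, 0, 0, 0, 0, 0, 0, 0, 0, 0, 0, 0, 0, 0, 0, 0, 0, 0, 0, 0, 0, 0, 3, 0, 3, 0, 0, 0, 0, 0, 0, 0, 3, 0, 0, 0, 0, 0, 0, 0, 3],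
    [0, 0, 0, 0, 0, 0, 0, 0, 0, 0, 0, 3, 0, 0, 0, 0, 0, 0, 0, 0, 0, 0, 0, 0, 3, 0, 0, 0, 0, 0, 0, 0, 0, 0, 0, 3, 0, 0, 0, 0, 0, 0, 3, 0, 0, 0, 0, 0, 0, 0, 3, 0, 0, 0, 0, 0, 0, 1, 0, 3, 0, 1, 0, 0, 0, 0, 0, 1, 0, 0, 0, 0, 3, 0, 0, 3, 3, 2],
    [0, 0, 0, 0, 0, 0, 0, 3, 3, 0, 1, 1, 0, 0, 0, 0, 0, 0, 0, 0, 0, 2, 0, 0, 0, 0, 0, 0, 0, 0, 0, 0, 0, 0, 0, 0, 0, 3, 0, 0, 0, 0, 0, 0, 3, 0, 0, 3, 0, 0, 0, 0, 0, 0, 0, 0, 0, 0, 0, 0, 1, 3, 0, 0, 2, 2, 0, 0, 0, 0, 0, 3, 0, 0, 0, 3],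
    [0, 0, 0, 0, 0, 0, 0, 3, 3, 3, 0, 0, 0, 0, 0, 0, 0, 0, 0, 0, 0, 2, 0, 0, 0, 0, 0, 0, 0, 0, 0, 0, 0, 0, 0, 0, 3, 3, 0, 0, 0, 0, 0, 3, 3, 0, 0, 3, 0, 0, 0, 0, 3, 0, 0, 2, 3, 0, 0, 0, 3, 3, 0, 0, 2, 0, 0, 0, 0, 0, 3, 0, 0, 0, 0, 2, 1, 2],
    [0, 0, 0, 0, 0, 0, 0, 0, 0, 3, 0, 0, 0, 0, 0, 0, 0, 0, 0, 0, 0, 0, 0, 0, 0, 3, 0, 0, 0, 0, 0, 0, 0, 1, 0, 0, 3, 0, 3, 0, 1, 0, 0, 3, 1, 0, 0, 0, 0, 0, 0, 3, 0, 0, 0, 0, 0, 1, 0, 0, 3, 0, 3, 0, 1, 3, 2, 1, 0, 0, 0, 1, 3, 0, 2, 1, 2],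
    [0, 0, 0, 0, 0, 0, 0, 0, 0, 0, 0, 0, 0, 0, 0, 0, 0, 0, 0, 0, 0, 0, 0, 0, 0, 0, 1, 0, 0, 0, 0, 1, 0, 0, 1, 0, 0, 3, 3, 3, 0, 1, 0, 0, 3, 3, 3, 0, 0, 0, 0, 0, 1, 0, 0, 1, 1, 0, 1, 0, 0, 3, 0, 0, 3, 3, 1, 0, 1, 0, 3, 1, 3, 1, 1, 0, 0, 3],
    [0, 0, 0, 0, 0, 0, 0, 0, 0, 0, 0, 0, 0, 0, 0, 0, 0, 0, 0, 0, 0, 0, 0, 0, 0, 0, 1, 0, 0, 0, 0, 0, 0, 0, 0, 1, 0, 1, 3, 0, 0, 0, 1, 0, 0, 3, 0, 3, 0, 0, 0, 0, 0, 0, 0, 0, 0, 0, 0, 1, 3, 0, 0, 0, 1, 3, 0, 0, 0, 1, 3, 0, 0, 0, 0, 3, 0, 1],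
    [0, 0, 0, 0, 0, 0, 0, 0, 0, 0, 0, 0, 0, 0, 0, 0, 0, 0, 0, 0, 0, 0, 0, 0, 0, 0, 0, 0, 0, 0, 0, 0, 0, 0, 0, 0, 0, 0, 0, 0, 0, 0, 0, 0, 0, 0, 0, 0, 0, 0, 0, 0, 0, 0, 0, 0, 0, 0, 0, 0, 0, 0, 1, 0, 0, 0, 0, 0, 0, 0, 0, 0, 1],
    [0, 0, 0, 0, 0, 0, 0, 0, 0, 3, 3, 0, 0, 0, 0, 0, 0, 0, 0, 0, 0, 0, 2, 0, 0, 0, 0, 0, 0, 0, 0, 0, 0, 0, 0, 0, 0, 0, 0, 0, 0, 0, 0, 0, 0, 0, 0, 0, 0, 0, 0, 0, 0, 3, 0, 0, 0, 1, 0, 0, 0, 0, 3, 0, 0, 0, 3, 1, 0, 0, 0, 0, 0, 0, 0, 0, 2, 2],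
    [0, 0, 0, 0, 0, 0, 0, 0, 0, 3, 3, 0, 0, 0, 0, 0, 0, 0, 0, 0, 0, 0, 2, 0, 0, 0, 0, 0, 0, 0, 0, 0, 0, 0, 0, 0, 0, 0, 0, 0, 0, 0, 0, 0, 0, 0, 0, 0, 3, 0, 0, 0, 0, 0, 0, 0, 0, 3, 0, 0, 0, 0, 0, 0, 0, 0, 3],
    [0, 0, 0, 0, 0, 0, 0, 0, 0, 0, 3, 0, 0, 0, 0, 0, 0, 0, 0, 0, 0, 0, 0, 2, 0, 0, 0, 0, 0, 0, 0, 0, 0, 0, 0, 0, 0, 0, 0, 0, 0, 0, 0, 0, 0, 0, 0, 0, 0, 0, 0, 0, 0, 0, 0, 0, 0, 0, 1, 0, 0, 0, 3, 0, 0, 0, 0, 0, 1, 0, 0, 0, 0, 0, 0, 0, 0, 2],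
    [0, 0, 0, 0, 0, 0, 0, 0, 0, 0, 3, 0, 0, 0, 0, 0, 0, 0, 0, 0, 0, 0, 0, 2, 0, 0, 0, 0, 0, 0, 0, 0, 0, 0, 0, 0, 0, 0, 0, 0, 0, 0, 0, 0, 0, 0, 0, 0, 0, 0, 0, 0, 0, 0, 0, 0, 0, 0, 3, 0, 0, 0, 3, 0, 0, 0, 0, 0, 0, 0, 0, 0, 3, 0, 0, 0, 0, 2],
    [0, 0, 0, 0, 0, 0, 0, 0, 0, 0, 0, 3, 0, 0, 0, 0, 0, 0, 0, 0, 0, 0, 0, 0, 3, 0, 0, 0, 0, 0, 0, 0, 0, 0, 0, 0, 0, 0, 0, 0, 0, 0, 0, 0, 0, 0, 0, 0, 0, 3, 3, 0, 0, 1, 0, 0, 0, 1, 3, 0, 0, 0, 1, 0, 0, 0, 0, 0, 0, 3, 0, 0, 0, 0, 0, 0, 3, 3],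
    [0, 0, 0, 0, 0, 0, 0, 0, 0, 0, 0, 0, 0, 0, 0, 0, 0, 0, 0, 0, 0, 0, 0, 0, 0, 0, 0, 0, 0, 0, 0, 0, 0, 0, 0, 0, 0, 0, 0, 0, 0, 0, 0, 0, 0, 0, 0, 0, 0, 0, 3, 0, 0, 0, 0, 0, 0, 0, 0, 3, 0, 0, 1, 0, 0, 0, 1, 1, 0, 0, 0, 0, 0, 0, 0, 0, 3, 2],
    [0, 0, 0, 0, 0, 0, 0, 0, 0, 3, 0, 0, 0, 0, 0, 0, 0, 0, 0, 0, 0, 0, 0, 0, 0, 2, 0, 0, 0, 0, 0, 0, 0, 0, 0, 0, 0, 0, 0, 0, 0, 0, 0, 0, 0, 0, 0, 0, 0, 0, 0, 0, 0, 3, 0, 0, 0, 0, 0, 0, 1, 0, 0, 0, 0, 0, 2, 0, 0, 0, 1, 0, 0, 0, 0, 0, 2],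
    [0, 0, 0, 0, 0, 0, 0, 0, 0, 3, 3, 3, 0, 0, 0, 0, 0, 0, 0, 0, 0, 0, 0, 0, 0, 2, 0, 0, 0, 0, 0, 0, 0, 0, 0, 0, 0, 0, 3, 0, 0, 0, 0, 0, 0, 3, 0, 0, 0, 0, 0, 3, 0, 3, 0, 0, 0, 0, 0, 0, 0, 0, 3, 0, 0, 0, 3, 0, 0, 0, 0, 0, 0, 0, 0, 0, 1, 2],
    [0, 0, 0, 0, 0, 0, 0, 0, 0, 0, 0, 0, 0, 0, 0, 0, 0, 0, 0, 0, 0, 0, 0, 0, 0, 0, 0, 0, 0, 0, 0, 0, 0, 0, 0, 0, 0, 0, 0, 0, 0, 0, 0, 0, 0, 1, 0, 0, 1, 0, 0, 3, 0, 0, 0, 0, 0, 0, 0, 0, 3, 0, 0, 0, 0, 0, 1, 0, 0, 0, 0, 0, 1, 0, 0, 3, 0, 3],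
    [0, 0, 0, 0, 0, 0, 0, 0, 0, 0, 3, 3, 0, 0, 0, 0, 0, 0, 0, 0, 0, 0, 0, 0, 0, 0, 3, 0, 0, 0, 0, 0, 1, 0, 0, 0, 0, 0, 0, 0, 0, 0, 0, 0, 0, 0, 0, 0, 0, 1, 0, 0, 3, 0, 3, 0, 0, 0, 0, 0, 3, 3, 3, 1, 0, 0, 2, 0, 0, 0, 0, 0, 1, 0, 0, 0, 3, 3],
    [0, 0, 0, 0, 0, 0, 0, 0, 0, 0, 0, 0, 0, 0, 0, 0, 0, 0, 0, 0, 0, 0, 0, 0, 0, 0, 0, 0, 0, 0, 0, 0, 0, 0, 0, 0, 0, 0, 1, 0, 0, 0, 0, 0, 0, 0, 0, 0, 0, 0, 1, 0, 0, 3, 0, 3, 0, 0, 0, 0, 0, 0, 0, 0, 0, 0, 0, 0, 0, 0, 3, 0, 3, 0, 1, 0, 3],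
    [0, 0, 0, 0, 0, 0, 0, 0, 0, 0, 0, 0, 0, 0, 0, 0, 0, 0, 0, 0, 0, 0, 0, 0, 0, 0, 0, 0, 0, 0, 0, 0, 0, 0, 0, 0, 0, 0, 1, 0, 0, 0, 0, 0, 0, 1, 0, 0, 0, 0, 0, 0, 3, 0, 0, 3, 3, 1, 0, 0, 0, 3, 0, 0, 1, 1, 3, 1, 0, 0, 0, 0, 0, 0, 0, 0, 1, 2],
    [0, 0, 0, 0, 0, 0, 0, 0, 0, 0, 0, 0, 0, 0, 0, 0, 0, 0, 0, 0, 0, 0, 0, 0, 0, 0, 0, 0, 0, 0, 0, 0, 0, 0, 0, 0, 0, 0, 1, 0, 0, 0, 0, 0, 0, 1, 0, 0, 0, 0, 0, 0, 3, 0, 0, 3, 3, 0, 0, 0, 1, 0, 1, 0, 0, 0, 3, 0, 0, 0, 1, 0, 1, 0, 0, 0, 3],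
    [0, 0, 0, 0, 0, 0, 0, 0, 0, 0, 0, 0, 0, 0, 0, 0, 0, 0, 0, 0, 0, 0, 0, 0, 0, 0, 0, 0, 0, 0, 0, 0, 0, 0, 0, 0, 0, 0, 0, 0, 0, 0, 0, 0, 0, 0, 0, 0, 0, 0, 0, 0, 0, 0, 0, 0, 0, 0, 0, 0, 0, 0, 0, 0, 0, 0, 0, 0, 0, 0, 0, 0, 0, 1],
    [0, 0, 0, 0, 0, 0, 0, 0, 3, 0, 3, 2, 0, 0, 0, 0, 0, 0, 0, 0, 0, 0, 0, 0, 0, 0, 0, 2, 0, 0, 0, 0, 0, 0, 0, 0, 0, 0, 0, 0, 0, 0, 0, 0, 0, 0, 3, 0, 0, 0, 0, 0, 0, 0, 0, 0, 0, 0, 0, 0, 0, 0, 0, 0, 0, 3, 0, 1, 0, 0, 0, 0, 0, 3, 0, 2, 0, 2],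
    [0, 0, 0, 0, 0, 0, 0, 0, 0, 0, 0, 0, 0, 0, 0, 0, 0, 0, 0, 0, 0, 0, 0, 0, 0, 0, 0, 0, 2, 0, 0, 0, 0, 0, 0, 0, 0, 0, 0, 0, 0, 0, 0, 0, 0, 0, 0, 0, 0, 0, 0, 0, 0, 0, 0, 0, 0, 0, 0, 0, 0, 0, 0, 3, 0, 0, 0, 0, 0, 0, 0, 0, 0, 3],
    [0, 0, 0, 0, 0, 0, 0, 0, 0, 0, 0, 0, 0, 0, 0, 0, 0, 0, 0, 0, 0, 0, 0, 0, 0, 0, 0, 0, 0, 3, 0, 0, 0, 0, 0, 0, 0, 0, 0, 0, 0, 3, 3, 0, 0, 0, 0, 0, 0, 0, 0, 0, 0, 0, 1, 0, 1, 0, 0, 3, 0, 0, 0, 1, 0, 0, 3, 0, 3, 0, 0, 0, 0, 0, 0, 1, 0, 1],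
    [0, 0, 0, 0, 0, 0, 0, 0, 0, 0, 0, 0, 0, 0, 0, 0, 0, 0, 0, 0, 0, 0, 0, 0, 0, 0, 0, 0, 0, 2, 0, 0, 0, 0, 0, 0, 0, 0, 0, 0, 0, 0, 0, 0, 0, 0, 0, 0, 0, 0, 0, 0, 0, 0, 0, 0, 0, 0, 0, 0, 0, 0, 0, 0, 0, 0, 0, 0, 0, 1],
    [0, 0, 0, 0, 0, 0, 0, 0, 0, 0, 0, 0, 0, 0, 0, 0, 0, 0, 0, 0, 0, 0, 0, 0, 0, 0, 0, 0, 0, 0, 0, 0, 0, 0, 0, 0, 0, 0, 0, 0, 0, 0, 3, 0, 0, 0, 0, 0, 0, 0, 0, 0, 0, 0, 0, 0, 0, 0, 0, 0, 0, 0, 0, 1, 0, 1, 0, 0, 0, 3, 0, 0, 0, 0, 0, 0, 0, 3],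
    [0, 0, 0, 0, 0, 0, 0, 3, 3, 3, 0, 0, 0, 0, 0, 0, 0, 0, 0, 0, 0, 0, 0, 0, 0, 0, 0, 0, 0, 0, 2, 0, 0, 0, 0, 0, 0, 0, 0, 3, 0, 0, 0, 0, 0, 0, 3, 3, 0, 0, 0, 0, 0, 0, 3, 3, 3, 0, 0, 0, 0, 0, 0, 3, 0, 2, 2, 0, 0, 0, 1, 0, 0, 3, 2, 2, 2, 1],
    [0, 0, 0, 0, 0, 0, 0, 0, 0, 0, 1, 1, 0, 0, 0, 0, 0, 0, 0, 0, 0, 0, 0, 0, 0, 0, 0, 0, 0, 0, 0, 0, 0, 1, 0, 0, 0, 0, 0, 0, 1, 0, 0, 3, 0, 0, 1, 0, 1, 0, 0, 0, 0, 0, 0, 0, 0, 1, 0, 0, 0, 0, 0, 0, 0, 0, 3, 1, 0, 0, 3, 0, 0, 1, 0, 2, 0, 1],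
    [0, 0, 0, 0, 0, 0, 0, 0, 0, 0, 1, 2, 0, 0, 0, 0, 0, 0, 0, 0, 0, 0, 0, 0, 0, 0, 0, 0, 0, 0, 0, 3, 3, 0, 1, 0, 0, 3, 3, 3, 0, 1, 0, 0, 3, 3, 3, 0, 0, 1, 0, 0, 3, 3, 0, 1, 1, 0, 1, 0, 0, 3, 0, 0, 3, 3, 3, 0, 1, 0, 0, 3, 0, 0, 3, 0, 2, 3],
    [0, 0, 0, 0, 0, 0, 0, 0, 0, 0, 3, 0, 0, 0, 0, 0, 0, 0, 0, 0, 0, 0, 0, 0, 0, 0, 0, 0, 0, 0, 0, 0, 3, 0, 0, 1, 0, 0, 3, 1, 0, 0, 1, 0, 0, 3, 0, 3, 0, 0, 1, 0, 0, 3, 0, 3, 0, 0, 0, 1, 0, 0, 3, 0, 3, 2, 0, 0, 0, 1, 0, 0, 3, 0, 1],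
    [0, 0, 0, 0, 0, 0, 0, 0, 0, 0, 0, 0, 0, 0, 0, 0, 0, 0, 0, 0, 0, 0, 0, 0, 0, 0, 0, 0, 0, 0, 0, 0, 3, 0, 0, 0, 0, 0, 0, 1, 0, 0, 0, 0, 3, 3, 1, 3, 0, 0, 0, 0, 0, 0, 1, 0, 1, 1, 0, 0, 0, 0, 3, 1, 3, 3, 0, 1, 0, 0, 0, 3, 3, 0, 0, 0, 1, 1],
    [0, 0, 0, 0, 0, 0, 0, 0, 0, 3, 3, 2, 0, 0, 0, 0, 0, 0, 0, 0, 0, 0, 0, 0, 0, 0, 0, 0, 0, 0, 0, 0, 0, 0, 0, 0, 2, 0, 0, 0, 0, 0, 0, 0, 0, 0, 0, 3, 0, 0, 0, 3, 0, 0, 0, 3, 0, 0, 0, 0, 0, 0, 0, 0, 3, 0, 3, 0, 0, 0, 3, 0, 0, 0, 0, 0, 0, 3],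
    [0, 0, 0, 0, 0, 0, 0, 0, 0, 0, 3, 3, 0, 0, 0, 0, 0, 0, 0, 0, 0, 0, 0, 0, 0, 0, 0, 0, 0, 0, 0, 0, 0, 0, 0, 0, 0, 0, 0, 0, 2, 0, 0, 0, 0, 0, 0, 0, 0, 0, 0, 0, 0, 0, 0, 0, 0, 1, 0, 0, 0, 0, 0, 0, 0, 3, 0, 1, 0, 0, 0, 0, 0, 0, 0, 3, 0, 3],
    [0, 0, 0, 3, 0, 0, 3, 3, 2, 2, 1, 0, 0, 0, 0, 3, 0, 0, 0, 0, 0, 0, 0, 0, 0, 0, 0, 3, 0, 0, 3, 0, 0, 0, 0, 0, 0, 0, 0, 3, 0, 0, 0, 0, 0, 0, 2, 3, 3, 0, 0, 3, 0, 0, 2, 3, 3, 3, 0, 0, 3, 0, 0, 3, 0, 1, 1, 3, 0, 0, 3, 0, 0, 2, 3, 1, 0, 1, 2],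
    [0, 0, 0, 0, 0, 0, 0, 0, 0, 3, 0, 1, 0, 1, 0, 0, 0, 0, 3, 0, 0, 3, 0, 0, 0, 3, 0, 1, 0, 0, 1, 1, 1, 3, 0, 0, 0, 3, 1, 1, 3, 0, 0, 3, 2, 0, 1, 0, 1, 0, 0, 1, 0, 0, 0, 1, 1, 1, 0, 0, 0, 3, 3, 0, 3, 1, 2, 1, 0, 0, 0, 0, 1, 0, 0, 0, 2, 3, 0, 0, 0, 0, 0, 0, 0, 0, 1],
    [1, 0, 0, 0, 0, 3, 0, 1, 1, 1, 1, 1, 0, 1, 0, 2, 0, 1, 2, 0, 0, 3, 2, 0, 0, 3, 1, 0, 0, 1, 3, 1, 3, 0, 0, 0, 0, 1, 3, 1, 1, 0, 0, 3, 2, 1, 2, 3, 1, 0, 1, 0, 1, 1, 3, 0, 1, 1, 0, 1, 1, 1, 1, 1, 1, 3, 1, 3, 0, 1, 0, 2, 0, 1, 0, 3, 0, 2, 0, 0, 0, 0, 1, 1, 0, 1, 0, 1],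
    [0, 0, 0, 0, 0, 1, 0, 1, 1, 0, 3, 3, 0, 0, 0, 1, 0, 0, 0, 0, 0, 0, 0, 0, 0, 3, 0, 1, 0, 0, 0, 0, 3, 0, 0, 0, 0, 0, 1, 0, 0, 0, 0, 0, 0, 0, 1, 0, 0, 0, 0, 0, 0, 2, 3, 1, 0, 1, 0, 0, 3, 0, 2, 0, 1, 1, 3, 1, 0, 0, 0, 0, 3, 2, 1, 0, 1, 0, 0, 0, 0, 0, 0, 0, 0, 1, 1],
    [0, 0, 0, 0, 0, 1, 0, 1, 3, 0, 1, 1, 0, 0, 0, 3, 0, 0, 0, 0, 0, 0, 0, 0, 0, 0, 0, 3, 0, 0, 0, 0, 0, 0, 0, 0, 0, 0, 1, 0, 0, 0, 0, 3, 0, 2, 2, 2, 0, 0, 0, 1, 0, 1, 0, 1, 1, 0, 0, 0, 0, 0, 2, 0, 2, 2, 2, 0, 0, 0, 0, 0, 2, 0, 2, 1, 3, 0, 0, 0, 0, 0, 0, 0, 0, 0, 1, 1],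
    [3, 0, 1, 3, 3, 0, 0, 2, 1, 2, 2, 3, 0, 0, 0, 3, 0, 0, 3, 0, 0, 3, 0, 0, 0, 3, 3, 0, 0, 0, 0, 0, 0, 3, 0, 0, 0, 3, 0, 0, 3, 0, 0, 3, 1, 3, 0, 1, 0, 0, 0, 0, 2, 3, 0, 1, 2, 0, 0, 0, 3, 2, 2, 0, 2, 3, 3, 0, 0, 0, 3, 2, 0, 0, 2, 1, 2, 0, 0, 2, 0, 0, 0, 0, 0, 0, 1],
    [1, 0, 0, 0, 0, 3, 0, 2, 3, 1, 3, 1, 0, 0, 0, 3, 0, 1, 3, 0, 0, 0, 3, 0, 0, 3, 3, 0, 0, 1, 0, 0, 3, 1, 0, 0, 3, 3, 2, 1, 3, 0, 0, 0, 3, 3, 0, 1, 0, 0, 0, 3, 3, 3, 0, 0, 0, 1, 0, 0, 0, 3, 2, 0, 3, 3, 0, 1, 0, 0, 0, 3, 0, 0, 2, 0, 1, 1, 0, 0, 0, 0, 1, 1, 0, 0, 0, 1],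
    [0, 0, 0, 0, 0, 1, 0, 0, 2, 2, 2, 3, 0, 3, 0, 0, 0, 1, 3, 0, 2, 3, 0, 0, 0, 3, 1, 3, 0, 1, 3, 3, 2, 3, 0, 1, 0, 1, 0, 2, 3, 0, 1, 3, 0, 3, 3, 3, 0, 0, 0, 0, 3, 1, 2, 2, 1, 0, 0, 0, 3, 2, 3, 2, 2, 0, 0, 3, 0, 0, 0, 3, 3, 1, 1, 3, 1, 0, 0, 0, 0, 0, 0, 0, 0, 0, 1, 1],
    [0, 0, 0, 0, 0, 1, 0, 1, 1, 0, 0, 1, 0, 0, 0, 1, 0, 0, 1, 0, 0, 0, 3, 0, 1, 3, 3, 0, 0, 0, 0, 0, 0, 1, 0, 0, 0, 0, 0, 0, 1, 0, 0, 0, 1, 3, 0, 2, 3, 0, 0, 0, 3, 1, 0, 1, 3, 0, 0, 0, 3, 3, 2, 0, 0, 0, 0, 0, 0, 0, 0, 1, 2, 0, 2, 1, 0, 3, 0, 0, 0, 0, 0, 0, 0, 0, 0, 1],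
    [0, 0, 0, 0, 0, 0, 0, 0, 3, 0, 2, 1, 0, 0, 0, 3, 0, 0, 0, 0, 0, 1, 0, 0, 0, 0, 0, 3, 0, 0, 3, 3, 0, 0, 0, 0, 1, 1, 0, 0, 3, 0, 1, 0, 0, 0, 3, 3, 0, 0, 0, 0, 0, 0, 0, 0, 0, 0, 0, 0, 3, 1, 0, 3, 2, 1, 0, 0, 0, 0, 3, 0, 0, 0, 2, 2],
    [0, 0, 0, 0, 0, 1, 0, 1, 0, 1, 2, 2, 0, 0, 0, 0, 0, 0, 0, 0, 0, 0, 0, 0, 0, 1, 0, 0, 0, 0, 0, 0, 3, 1, 0, 0, 0, 0, 2, 0, 0, 0, 0, 0, 0, 0, 0, 0, 0, 0, 0, 0, 0, 2, 1, 2, 0, 0, 0, 0, 0, 0, 1, 0, 3, 0, 2, 0, 0, 0, 0, 0, 2, 0, 1, 0, 2, 1, 0, 0, 0, 0, 0, 0, 0, 1, 0, 1],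
    [0, 0, 0, 0, 0, 0, 0, 0, 0, 0, 0, 0, 0, 0, 0, 0, 0, 0, 0, 3, 0, 0, 0, 3, 0, 0, 0, 0, 0, 0, 0, 0, 0, 0, 1, 0, 0, 1, 1, 0, 0, 0, 0, 0, 0, 0, 0, 0, 0, 1, 0, 0, 0, 0, 0, 1, 0, 0, 3, 0, 0, 1, 0, 0, 0, 0, 0, 0, 3, 0, 0, 0, 3, 3, 1, 1, 1, 3],
    [0, 0, 0, 0, 0, 0, 0, 0, 0, 0, 3, 0, 0, 0, 3, 0, 0, 0, 0, 0, 0, 0, 0, 3, 0, 0, 0, 0, 0, 0, 0, 0, 0, 0, 0, 1, 0, 0, 1, 0, 0, 0, 0, 0, 0, 0, 0, 0, 0, 0, 0, 0, 0, 0, 0, 0, 0, 0, 1, 0, 0, 0, 1, 0, 1, 0, 0, 0, 0, 0, 0, 0, 0, 0, 1],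
    [0, 3, 0, 0, 3, 3, 0, 0, 0, 1, 2, 2, 0, 0, 3, 0, 0, 0, 0, 3, 3, 0, 0, 3, 3, 0, 3, 0, 3, 0, 0, 3, 3, 0, 0, 0, 0, 0, 0, 0, 0, 3, 0, 0, 3, 3, 0, 0, 0, 0, 1, 0, 0, 0, 1, 0, 1, 0, 3, 2, 0, 2, 3, 3, 0, 0, 3, 0, 3, 2, 0, 3, 2, 1, 0, 3, 1, 2, 0, 0, 0, 0, 0, 0, 0, 0, 0, 0, 0, 0, 0, 2],
    [0, 0, 0, 0, 0, 0, 0, 0, 0, 0, 1, 0, 0, 0, 1, 0, 0, 0, 0, 1, 1, 0, 0, 0, 3, 0, 3, 0, 0, 0, 0, 2, 0, 0, 3, 0, 0, 3, 3, 0, 0, 0, 0, 0, 2, 0, 0, 0, 0, 3, 3, 0, 2, 3, 2, 3, 2, 0, 0, 1, 0, 0, 0, 1, 2, 0, 1, 0, 0, 1, 0, 0, 1, 3, 3, 3, 0, 3],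
    [0, 3, 3, 0, 0, 3, 0, 3, 0, 0, 2, 1, 0, 0, 3, 0, 0, 0, 0, 0, 0, 0, 0, 3, 3, 0, 0, 0, 0, 0, 0, 0, 0, 0, 3, 3, 0, 0, 3, 0, 0, 0, 0, 0, 0, 0, 0, 0, 0, 0, 0, 0, 0, 0, 0, 0, 0, 0, 0, 2, 0, 0, 3, 0, 0, 0, 0, 0, 0, 3, 0, 0, 0, 0, 1, 0, 0, 2, 0, 0, 0, 0, 0, 0, 0, 0, 0, 0, 0, 0, 0, 0, 0, 0, 2]]
  tgt := [
    ([(0, 1)], [(0, 1), (1, 3), (4, 2), (5, 2), (6, 2), (7, 2), (8, 3), (9, 2), (12, 3), (13, 3), (14, 3), (17, 1), (18, 2), (19, 3), (21, 2), (23, 2), (25, 1), (26, 3), (27, 2), (29, 1), (31, 2), (32, 3), (33, 3), (34, 3), (35, 2), (36, 1), (37, 1), (38, 1), (39, 1), (40, 1), (41, 3), (43, 1), (48, 1), (51, 3), (52, 3), (53, 1), (54, 2), (55, 3), (56, 3), (57, 3), (58, 1), (60, 1), (61, 1), (62, 3), (63, 3), (64, 3), (65, 1), (66, 2), (67, 3), (68, 2), (69, 3), (70, 1), (71, 2), (73, 2)]),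
    ([], []),
    ([], []),
    ([], []),
    ([], [(0, 1), (1, 3), (2, 1), (3, 3), (5, 1), (10, 3), (11, 1), (12, 1), (13, 2), (14, 1), (17, 2), (19, 3), (20, 1), (21, 2), (22, 2), (23, 2), (26, 2), (27, 1), (28, 2), (29, 2), (30, 1), (31, 2), (32, 3), (33, 1), (35, 2), (36, 2), (37, 1), (38, 3), (39, 2), (40, 3), (41, 3), (42, 3), (43, 2), (45, 3), (47, 3), (50, 3), (51, 3), (52, 2), (53, 2), (54, 1), (56, 3), (57, 2), (58, 2), (59, 3), (60, 2), (61, 3), (62, 2), (64, 2), (66, 3), (68, 3), (69, 1), (70, 2), (71, 1), (72, 3), (73, 3)]),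
    ([(0, 1)], [(0, 3), (2, 1), (3, 1), (4, 3), (8, 2), (9, 3), (10, 3), (11, 3), (12, 1), (13, 2), (14, 3), (15, 2), (16, 1), (18, 3), (20, 1), (21, 1), (22, 2), (23, 1), (24, 1), (25, 1), (28, 2), (32, 2), (33, 2), (35, 1), (36, 1), (37, 2), (38, 3), (39, 2), (40, 3), (41, 1), (42, 1), (43, 2), (44, 1), (46, 2), (47, 3), (48, 2), (50, 3), (51, 3), (52, 2), (53, 1), (55, 1), (56, 3), (57, 3), (59, 2), (60, 1), (61, 2), (62, 2), (63, 2), (64, 3), (66, 1), (68, 1), (69, 1), (70, 3), (71, 2), (72, 2), (73, 1)]),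
    ([(0, 1)], [(0, 1), (1, 2), (2, 1), (4, 2), (5, 3), (6, 2), (8, 2), (9, 1), (10, 3), (11, 3), (12, 2), (14, 2), (15, 1), (16, 2), (17, 3), (18, 2), (19, 3), (20, 3), (21, 2), (22, 2), (23, 2), (24, 1), (25, 2), (27, 3), (28, 1), (29, 1), (30, 2), (31, 1), (33, 3), (34, 1), (35, 2), (36, 2), (38, 1), (39, 1), (40, 2), (42, 3), (43, 2), (44, 1), (45, 2), (46, 2), (47, 3), (48, 1), (49, 2), (50, 3), (51, 2), (52, 2), (54, 2), (56, 2), (57, 2), (58, 2), (59, 1), (61, 1), (63, 2), (66, 1), (68, 3), (69, 1), (70, 1), (71, 1), (73, 2)]),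
    ([(0, 1)], [(1, 2), (2, 3), (4, 3), (5, 3), (7, 2), (8, 2), (9, 2), (10, 1), (11, 1), (12, 3), (13, 2), (15, 1), (16, 1), (17, 2), (18, 1), (19, 1), (20, 3), (23, 3), (24, 1), (25, 2), (26, 2), (28, 3), (29, 2), (30, 3), (31, 3), (32, 1), (33, 3), (34, 1), (35, 3), (36, 1), (37, 1), (38, 1), (39, 1), (40, 1), (41, 1), (45, 3), (49, 1), (51, 1), (52, 2), (53, 1), (55, 3), (56, 1), (57, 3), (60, 3), (63, 2), (64, 1), (65, 2), (66, 1), (68, 1), (69, 1), (70, 3), (71, 2), (72, 2), (73, 1)]),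
    ([(0, 1)], [(0, 2), (1, 2), (2, 1), (3, 2), (4, 2), (5, 1), (6, 1), (7, 1), (8, 3), (11, 3), (12, 3), (13, 2), (14, 1), (15, 3), (16, 1), (18, 2), (21, 3), (22, 2), (23, 3), (26, 3), (29, 3), (30, 2), (32, 2), (33, 3), (35, 1), (36, 1), (38, 1), (39, 3), (43, 2), (46, 1), (47, 1), (50, 2), (51, 2), (53, 2), (54, 2), (55, 1), (57, 3), (58, 2), (59, 1), (60, 2), (61, 3), (63, 2), (64, 2), (65, 2), (66, 3), (68, 3), (69, 1), (70, 3), (72, 2), (73, 1)]),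
    ([], [(2, 2), (3, 3), (4, 1), (5, 2), (6, 1), (7, 1), (9, 3), (10, 2), (13, 2), (14, 3), (15, 2), (17, 2), (18, 3), (19, 1), (20, 2), (21, 1), (22, 2), (25, 1), (26, 3), (28, 3), (29, 1), (32, 1), (34, 3), (35, 3), (36, 1), (37, 2), (40, 3), (41, 2), (42, 2), (44, 3), (47, 2), (49, 1), (50, 2), (51, 3), (53, 3), (55, 3), (57, 1), (59, 2), (61, 2), (62, 2), (65, 2), (66, 2), (67, 2), (68, 2), (70, 2), (72, 2), (73, 2)]),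
    ([], [(0, 1), (1, 2), (5, 3), (6, 3), (7, 2), (8, 2), (10, 2), (15, 2), (16, 2), (17, 2), (18, 2), (20, 2), (22, 2), (25, 2), (26, 2), (27, 2), (29, 2), (30, 2), (31, 3), (32, 2), (35, 1), (37, 2), (38, 2), (40, 2), (41, 2), (42, 2), (43, 2), (45, 2), (48, 2), (49, 2), (53, 2), (54, 2), (70, 2)]),
    ([], [(0, 3), (1, 2), (2, 2), (5, 1), (6, 3), (7, 2), (9, 2), (10, 2), (13, 2), (14, 2), (15, 2), (18, 2), (20, 2), (21, 3), (23, 1), (24, 1), (25, 2), (29, 2), (31, 2), (33, 2), (36, 2), (37, 2), (42, 2), (46, 2), (48, 2), (49, 3), (51, 2), (52, 2), (53, 2), (55, 2), (62, 2), (65, 2), (67, 2), (70, 2), (72, 2), (73, 2)]),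
    ([], []),
    ([], [(2, 1), (3, 2), (4, 3), (5, 3), (6, 3), (8, 3), (10, 1), (14, 1), (15, 3), (16, 1), (18, 2), (19, 1), (20, 3), (21, 2), (22, 2), (23, 2), (26, 2), (27, 3), (28, 3), (29, 1), (30, 2), (31, 2), (32, 1), (33, 2), (34, 3), (36, 1), (37, 3), (38, 2), (39, 3), (40, 1), (43, 2), (44, 2), (46, 1), (47, 2), (48, 2), (51, 3), (52, 1), (53, 3), (54, 2), (55, 1), (56, 2), (57, 3), (60, 2), (61, 2), (64, 2), (65, 2), (66, 2), (67, 2), (69, 2), (72, 2), (73, 2)]),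
    ([(0, 2)], [(0, 1), (1, 2), (2, 1), (3, 2), (5, 2), (6, 1), (7, 2), (8, 2), (9, 3), (10, 3), (12, 2), (13, 3), (14, 1), (15, 1), (17, 1), (18, 1), (19, 2), (20, 3), (23, 3), (25, 1), (28, 2), (29, 3), (31, 1), (32, 2), (35, 3), (36, 1), (38, 3), (39, 2), (40, 3), (41, 2), (42, 3), (43, 1), (44, 1), (45, 1), (46, 1), (48, 1), (49, 3), (50, 1), (51, 3), (52, 3), (53, 1), (54, 1), (55, 1), (56, 1), (58, 2), (59, 2), (60, 2), (62, 1), (63, 2), (64, 2), (65, 3), (66, 2), (67, 1), (68, 2), (69, 2), (73, 3)]),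
    ([], []),
    ([], []),
    ([], []),
    ([], []),
    ([(0, 1)], [(0, 3), (2, 2), (3, 3), (8, 3), (9, 1), (10, 1), (11, 3), (12, 3), (13, 3), (14, 2), (15, 1), (16, 2), (17, 1), (18, 1), (19, 3), (20, 1), (21, 1), (24, 1), (25, 2), (26, 2), (27, 3), (28, 2), (29, 1), (30, 3), (32, 1), (34, 1), (35, 1), (36, 3), (37, 3), (38, 1), (39, 3), (40, 3), (41, 3), (43, 1), (44, 2), (45, 2), (47, 1), (48, 3), (49, 2), (50, 2), (51, 2), (53, 2), (54, 1), (55, 2), (56, 1), (57, 2), (58, 2), (59, 2), (60, 3), (61, 2), (62, 3), (63, 2), (64, 1), (65, 3), (66, 3), (67, 3), (68, 3), (69, 2), (70, 3), (73, 1)]),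
    ([(0, 1)], [(2, 3), (4, 3), (5, 3), (6, 2), (7, 2), (8, 2), (9, 3), (10, 3), (11, 3), (12, 3), (13, 2), (14, 3), (15, 1), (16, 3), (17, 3), (20, 1), (21, 3), (22, 3), (26, 3), (30, 2), (32, 1), (33, 1), (34, 1), (37, 2), (39, 1), (40, 2), (41, 3), (42, 2), (45, 1), (46, 1), (47, 1), (48, 3), (49, 3), (51, 1), (52, 2), (53, 1), (55, 2), (56, 1), (58, 2), (60, 3), (61, 2), (62, 2), (63, 2), (64, 1), (65, 2), (66, 1), (68, 3), (72, 1), (73, 3)]),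
    ([], [(0, 2), (1, 1), (2, 1), (3, 1), (4, 2), (5, 1), (6, 2), (7, 3), (8, 3), (12, 3), (13, 1), (16, 1), (19, 2), (21, 2), (22, 2), (23, 2), (25, 3), (28, 2), (29, 3), (30, 2), (33, 2), (34, 1), (35, 2), (36, 1), (37, 1), (38, 2), (40, 2), (41, 1), (42, 2), (43, 2), (44, 3), (45, 2), (48, 1), (49, 1), (50, 1), (52, 3), (53, 2), (54, 1), (55, 3), (56, 1), (57, 3), (58, 1), (59, 2), (60, 3), (61, 1), (62, 1), (64, 1), (66, 3), (67, 2), (70, 1), (71, 1), (73, 3)]),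
    ([(0, 1)], [(0, 1), (2, 2), (3, 2), (4, 1), (5, 1), (6, 2), (7, 3), (8, 3), (9, 1), (10, 2), (11, 1), (12, 1), (13, 3), (14, 3), (15, 2), (16, 2), (17, 3), (19, 1), (22, 3), (23, 2), (24, 1), (25, 3), (27, 3), (29, 1), (30, 3), (31, 2), (32, 2), (33, 2), (34, 2), (35, 2), (36, 2), (37, 1), (38, 1), (39, 1), (40, 2), (41, 2), (42, 3), (43, 2), (44, 3), (47, 2), (49, 3), (50, 3), (54, 3), (56, 1), (57, 2), (58, 2), (61, 1), (62, 1), (63, 2), (67, 1), (68, 3), (69, 2), (72, 3), (73, 1)]),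
    ([], [(0, 2), (1, 3), (2, 2), (3, 3), (6, 1), (7, 3), (8, 3), (9, 2), (10, 1), (13, 2), (14, 2), (15, 1), (16, 1), (17, 1), (20, 3), (21, 3), (22, 3), (23, 3), (25, 1), (26, 1), (27, 3), (28, 2), (29, 3), (30, 1), (31, 1), (32, 3), (34, 2), (36, 2), (37, 3), (38, 1), (39, 2), (40, 3), (41, 3), (42, 1), (43, 3), (44, 2), (45, 1), (46, 2), (48, 1), (49, 1), (52, 2), (53, 3), (54, 1), (56, 2), (57, 2), (59, 2), (60, 2), (64, 2), (65, 2), (67, 2), (68, 2), (69, 2), (70, 1), (73, 2)]),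
    ([(0, 2)], [(0, 1), (1, 1), (2, 1), (3, 1), (4, 1), (6, 3), (7, 2), (9, 3), (10, 1), (12, 2), (13, 1), (14, 3), (15, 3), (16, 2), (17, 1), (18, 3), (20, 1), (21, 2), (22, 2), (23, 3), (25, 1), (27, 2), (29, 3), (31, 1), (32, 1), (33, 2), (35, 3), (36, 2), (38, 3), (40, 3), (42, 3), (43, 3), (44, 3), (45, 1), (46, 3), (47, 2), (48, 1), (49, 2), (50, 3), (51, 3), (52, 1), (53, 1), (54, 1), (55, 1), (56, 1), (57, 2), (58, 2), (59, 2), (61, 2), (62, 3), (63, 2), (65, 3), (67, 3), (68, 2), (69, 2), (73, 1)]),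
    ([(0, 2)], [(0, 2), (1, 3), (2, 2), (3, 1), (5, 2), (6, 2), (7, 1), (9, 2), (10, 2), (12, 2), (13, 2), (14, 3), (15, 2), (16, 1), (17, 1), (19, 3), (21, 3), (24, 1), (25, 3), (26, 3), (27, 2), (28, 3), (30, 3), (31, 1), (33, 1), (34, 1), (35, 1), (36, 1), (37, 1), (39, 3), (40, 1), (42, 2), (43, 2), (44, 1), (45, 2), (46, 3), (49, 1), (50, 1), (53, 2), (55, 2), (56, 3), (57, 3), (58, 2), (59, 1), (60, 2), (61, 1), (62, 3), (63, 2), (64, 2), (65, 1), (66, 3), (68, 1), (69, 3), (70, 1), (72, 3), (73, 3)]),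
    ([(0, 1)], [(0, 2), (2, 3), (3, 3), (4, 1), (5, 1), (6, 2), (7, 3), (8, 1), (9, 2), (10, 2), (11, 1), (12, 1), (13, 2), (15, 2), (16, 2), (18, 2), (19, 3), (21, 3), (22, 2), (23, 1), (26, 3), (27, 3), (28, 3), (29, 2), (30, 1), (32, 3), (33, 3), (34, 3), (35, 2), (36, 2), (37, 3), (38, 3), (39, 3), (40, 2), (41, 2), (42, 1), (43, 1), (44, 1), (45, 3), (46, 1), (47, 2), (53, 1), (54, 3), (55, 3), (56, 1), (57, 1), (58, 2), (60, 3), (61, 2), (62, 2), (63, 2), (64, 1), (65, 2), (66, 1), (68, 3), (69, 3), (70, 1), (72, 2), (73, 3)]),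
    ([(0, 1)], [(0, 1), (1, 3), (2, 1), (3, 3), (4, 1), (5, 3), (6, 1), (7, 3), (8, 2), (9, 3), (11, 3), (12, 1), (13, 3), (14, 2), (15, 3), (16, 1), (18, 1), (19, 3), (20, 1), (21, 1), (22, 3), (23, 1), (24, 1), (25, 3), (27, 1), (28, 2), (29, 3), (30, 3), (31, 3), (32, 2), (33, 1), (34, 2), (35, 1), (36, 2), (37, 3), (38, 3), (39, 1), (40, 1), (41, 1), (43, 1), (44, 2), (49, 3), (52, 2), (54, 2), (55, 1), (56, 3), (57, 3), (59, 1), (60, 3), (61, 1), (62, 1), (64, 1), (65, 1), (66, 2), (67, 2), (69, 1), (70, 1)]),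
    ([(0, 1)], []),
    ([(0, 1)], [(0, 2), (1, 1), (2, 3), (4, 2), (6, 3), (7, 1), (8, 1), (11, 1), (12, 3), (14, 3), (17, 1), (18, 1), (19, 1), (20, 2), (21, 3), (24, 1), (25, 3), (27, 3), (29, 2), (30, 1), (31, 3), (32, 3), (33, 1), (34, 3), (35, 3), (36, 2), (38, 3), (39, 3), (40, 3), (41, 1), (42, 3), (43, 1), (46, 3), (47, 3), (49, 2), (50, 2), (51, 1), (52, 3), (53, 1), (54, 1), (55, 1), (56, 3), (57, 2), (60, 1), (61, 2), (64, 3), (65, 2), (66, 1), (67, 2), (68, 1), (69, 2), (72, 3)]),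
    ([(0, 2)], [(0, 3), (1, 1), (2, 2), (3, 3), (4, 2), (5, 2), (8, 1), (9, 1), (10, 3), (11, 2), (12, 3), (13, 3), (14, 1), (15, 3), (16, 1), (17, 1), (18, 3), (19, 2), (20, 2), (21, 2), (22, 1), (23, 1), (25, 3), (27, 3), (28, 2), (29, 3), (31, 1), (32, 2), (33, 1), (34, 3), (35, 2), (36, 3), (37, 1), (38, 1), (41, 1), (42, 3), (43, 2), (44, 1), (45, 3), (46, 2), (47, 1), (48, 1), (49, 3), (51, 2), (52, 2), (53, 1), (54, 3), (55, 3), (56, 1), (57, 1), (58, 3), (60, 1), (62, 3), (63, 2), (64, 3), (65, 3), (66, 3), (67, 2), (68, 3), (69, 2), (70, 2), (71, 1), (72, 2), (73, 2)]),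
    ([(0, 2)], [(1, 2), (2, 1), (5, 1), (8, 3), (9, 2), (10, 2), (12, 2), (13, 1), (14, 3), (15, 3), (16, 3), (17, 3), (18, 1), (19, 1), (20, 2), (21, 3), (22, 1), (24, 1), (26, 2), (27, 3), (29, 2), (30, 1), (31, 2), (32, 1), (33, 3), (34, 2), (35, 1), (37, 1), (38, 3), (39, 3), (40, 1), (41, 2), (42, 1), (43, 1), (44, 1), (45, 2), (46, 1), (48, 3), (49, 1), (52, 2), (53, 3), (56, 3), (57, 1), (58, 2), (60, 2), (61, 2), (62, 3), (63, 2), (64, 2), (65, 1), (67, 3), (69, 1), (70, 2), (72, 1), (73, 3)]),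
    ([(0, 1)], [(0, 3), (1, 3), (2, 2), (3, 2), (5, 3), (7, 1), (8, 2), (9, 3), (10, 2), (11, 1), (12, 3), (13, 1), (14, 2), (15, 1), (16, 1), (17, 3), (18, 2), (19, 3), (20, 2), (22, 2), (23, 2), (24, 1), (25, 1), (26, 2), (27, 2), (28, 2), (29, 1), (30, 3), (31, 3), (32, 3), (33, 2), (34, 2), (35, 3), (36, 3), (37, 3), (38, 2), (39, 2), (41, 3), (42, 1), (43, 1), (44, 3), (45, 2), (46, 2), (47, 3), (48, 1), (50, 2), (51, 3), (52, 2), (53, 2), (54, 1), (55, 3), (56, 2), (57, 3), (60, 3), (61, 2), (62, 1), (64, 1), (65, 1), (66, 3), (67, 1), (68, 3), (69, 3), (70, 3), (72, 2), (73, 2)]),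
    ([(0, 1)], [(0, 2), (1, 2), (4, 2), (5, 1), (7, 1), (9, 1), (10, 1), (11, 1), (12, 1), (13, 1), (14, 3), (15, 1), (17, 2), (19, 1), (20, 3), (21, 2), (26, 2), (27, 2), (29, 3), (30, 3), (32, 2), (33, 2), (34, 2), (37, 1), (39, 2), (40, 3), (41, 3), (42, 1), (43, 2), (45, 3), (46, 2), (47, 2), (48, 3), (49, 3), (50, 3), (51, 1), (52, 2), (54, 2), (55, 1), (56, 2), (58, 2), (59, 2), (60, 2), (61, 3), (62, 1), (63, 2), (64, 2), (67, 3), (68, 3), (69, 2), (70, 2), (72, 3), (73, 1)]),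
    ([], [(0, 1), (1, 1), (2, 3), (3, 2), (5, 1), (6, 2), (7, 3), (9, 1), (10, 1), (11, 2), (12, 2), (13, 1), (15, 3), (18, 2), (19, 2), (20, 3), (21, 2), (22, 1), (24, 1), (25, 2), (26, 2), (27, 2), (28, 3), (29, 3), (30, 3), (31, 1), (32, 1), (33, 1), (35, 3), (36, 1), (38, 3), (39, 1), (40, 3), (41, 2), (42, 3), (43, 3), (45, 1), (46, 3), (47, 1), (48, 2), (49, 2), (51, 3), (52, 2), (53, 3), (54, 1), (55, 2), (56, 1), (59, 2), (62, 3), (65, 3), (66, 2), (67, 3), (70, 3), (72, 2)]),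
    ([(0, 2)], [(0, 3), (1, 3), (2, 3), (4, 1), (5, 3), (7, 3), (8, 3), (9, 2), (10, 2), (11, 2), (13, 3), (15, 2), (16, 3), (17, 1), (19, 1), (23, 3), (26, 2), (27, 1), (28, 1), (31, 3), (33, 3), (34, 3), (36, 1), (38, 1), (39, 3), (42, 3), (43, 1), (44, 3), (46, 3), (47, 3), (48, 1), (51, 2), (52, 1), (53, 2), (54, 1), (56, 1), (57, 2), (58, 2), (59, 2), (61, 2), (62, 1), (63, 2), (65, 1), (67, 1), (68, 2), (70, 2), (73, 1)]),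
    ([], [(0, 1), (2, 3), (4, 1), (6, 2), (8, 3), (10, 2), (13, 3), (14, 3), (18, 3), (21, 1), (22, 2), (23, 1), (25, 2), (27, 1), (28, 3), (29, 2), (30, 2), (31, 3), (32, 2), (33, 1), (35, 3), (36, 1), (37, 3), (38, 1), (39, 1), (40, 3), (41, 3), (45, 1), (47, 2), (48, 3), (49, 3), (50, 2), (51, 1), (53, 2), (55, 2), (56, 2), (57, 3), (59, 3), (60, 2), (61, 3), (62, 2), (64, 2), (66, 3), (67, 3), (68, 3), (69, 1), (70, 3), (72, 3)]),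
    ([(0, 1)], [(1, 3), (2, 2), (3, 1), (4, 3), (5, 2), (7, 1), (8, 3), (9, 1), (10, 1), (11, 1), (12, 3), (13, 3), (14, 2), (15, 3), (18, 1), (19, 2), (20, 3), (21, 2), (22, 1), (23, 1), (24, 1), (25, 2), (26, 2), (27, 3), (29, 1), (30, 3), (31, 2), (32, 3), (34, 2), (35, 3), (36, 2), (37, 2), (38, 3), (39, 1), (40, 1), (41, 3), (44, 1), (45, 2), (46, 3), (47, 3), (48, 2), (49, 3), (54, 3), (55, 1), (56, 3), (57, 3), (60, 3), (62, 1), (64, 1), (65, 3), (66, 3), (67, 1), (68, 1), (69, 3), (70, 1), (72, 2), (73, 2)]),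
    ([], [(3, 3), (4, 2), (5, 2), (6, 3), (7, 1), (8, 3), (9, 3), (10, 1), (11, 2), (12, 2), (13, 2), (14, 2), (15, 1), (16, 3), (17, 3), (18, 1), (20, 1), (21, 2), (22, 3), (25, 1), (27, 1), (29, 2), (31, 2), (32, 2), (34, 2), (35, 3), (36, 2), (37, 1), (40, 1), (41, 1), (44, 3), (46, 1), (47, 3), (48, 1), (49, 3), (50, 1), (51, 1), (52, 3), (53, 2), (54, 1), (55, 1), (56, 2), (57, 2), (69, 2), (70, 2)]),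
    ([(0, 1)], [(0, 2), (2, 3), (6, 2), (8, 1), (9, 3), (11, 1), (12, 1), (14, 2), (16, 2), (18, 2), (19, 1), (21, 3), (23, 1), (24, 1), (27, 1), (28, 1), (31, 1), (33, 3), (34, 3), (35, 2), (36, 2), (38, 3), (40, 2), (43, 3), (44, 1), (45, 2), (46, 2), (47, 2), (48, 2), (49, 1), (50, 2), (51, 3), (52, 1), (53, 1), (57, 1), (58, 2), (60, 3), (62, 2), (63, 2), (64, 1), (66, 1), (68, 1), (69, 1), (70, 1), (73, 3)]),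
    ([(0, 1)], [(0, 3), (1, 2), (2, 1), (3, 1), (4, 3), (5, 1), (6, 2), (7, 3), (8, 3), (9, 3), (10, 3), (11, 3), (12, 3), (14, 3), (15, 2), (16, 3), (17, 1), (18, 1), (19, 3), (21, 3), (22, 1), (23, 3), (24, 1), (26, 3), (27, 2), (29, 3), (31, 1), (32, 2), (33, 3), (34, 1), (35, 2), (39, 3), (41, 2), (42, 3), (43, 1), (44, 1), (45, 3), (46, 1), (47, 3), (48, 3), (49, 1), (50, 2), (51, 2), (52, 3), (53, 2), (54, 2), (55, 2), (56, 2), (57, 2), (58, 2), (59, 1), (61, 1), (62, 2), (63, 2), (65, 2), (66, 1), (67, 2), (68, 3), (69, 1), (70, 3), (72, 2), (73, 3)]),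
    ([(0, 2)], [(1, 1), (2, 2), (3, 2), (5, 3), (7, 2), (8, 2), (9, 3), (10, 2), (12, 2), (14, 2), (17, 2), (19, 2), (20, 1), (22, 3), (23, 1), (24, 1), (25, 2), (27, 3), (28, 2), (29, 1), (30, 2), (31, 2), (33, 3), (34, 1), (35, 3), (36, 1), (37, 3), (39, 2), (42, 1), (45, 1), (46, 2), (48, 2), (52, 3), (53, 1), (54, 1), (56, 1), (57, 1), (58, 2), (59, 1), (60, 1), (61, 2), (62, 3), (63, 2), (64, 3), (67, 2), (68, 1), (69, 3), (70, 3), (72, 1), (73, 3)]),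
    ([], [(0, 3), (1, 2), (2, 2), (6, 1), (9, 1), (10, 2), (11, 2), (12, 2), (14, 2), (15, 1), (17, 3), (18, 3), (19, 3), (21, 3), (22, 3), (23, 3), (25, 2), (26, 2), (27, 2), (30, 2), (33, 2), (34, 3), (36, 3), (37, 2), (38, 1), (39, 2), (41, 2), (42, 3), (43, 1), (44, 3), (45, 2), (46, 2), (47, 3), (48, 1), (49, 3), (50, 3), (52, 3), (53, 2), (55, 3), (61, 2), (65, 2), (68, 2)]),
    ([(0, 1)], [(0, 2), (1, 2), (3, 2), (4, 3), (7, 3), (8, 2), (9, 1), (11, 3), (12, 3), (13, 3), (14, 2), (15, 2), (17, 2), (18, 2), (19, 3), (20, 3), (23, 2), (24, 1), (25, 3), (26, 2), (27, 2), (28, 1), (30, 1), (31, 1), (32, 1), (33, 3), (35, 1), (36, 2), (37, 3), (39, 2), (40, 2), (43, 1), (45, 2), (46, 3), (47, 1), (48, 3), (49, 3), (51, 3), (52, 2), (53, 3), (54, 1), (56, 2), (57, 1), (58, 2), (61, 1), (62, 3),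 (63, 2), (65, 2), (67, 3), (68, 3), (72, 3), (73, 1)]),
    ([(0, 2)], [(0, 3), (1, 1), (2, 1), (3, 1), (6, 2), (7, 1), (10, 3), (12, 2), (13, 3), (14, 1), (15, 2), (16, 1), (17, 1), (18, 3), (19, 1), (21, 1), (23, 2), (24, 1), (25, 3), (26, 2), (29, 3), (30, 3), (33, 1), (34, 1), (35, 1), (36, 2), (42, 2), (43, 2), (44, 1), (45, 2), (47, 2), (48, 1), (49, 1), (50, 1), (51, 1), (52, 1), (53, 1), (54, 1), (55, 3), (56, 3), (57, 1), (58, 2), (59, 2), (60, 2), (61, 3), (62, 2), (63, 2), (64, 2), (65, 3), (67, 1), (68, 3), (70, 2), (73, 1)]),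
    ([(0, 1)], [(0, 2), (1, 2), (2, 1), (3, 2), (4, 1), (6, 3), (7, 1), (9, 3), (10, 1), (11, 3), (12, 3), (15, 1), (16, 1), (17, 2), (18, 2), (19, 2), (20, 2), (21, 3), (24, 1), (27, 1), (28, 1), (30, 2), (32, 3), (33, 3), (34, 2), (36, 1), (37, 2), (40, 2), (41, 1), (43, 1), (44, 1), (45, 1), (46, 2), (47, 3), (48, 2), (49, 1), (50, 2), (51, 2), (52, 1), (53, 3), (54, 3), (56, 2), (57, 1), (58, 2), (59, 1), (61, 2), (62, 1), (63, 2), (65, 2), (66, 3), (67, 2), (68, 2), (69, 3), (70, 1), (73, 3)]),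
    ([(0, 1)], [(0, 1), (2, 3), (3, 1), (4, 3), (5, 3), (7, 3), (8, 2), (9, 2), (10, 3), (11, 3), (12, 3), (13, 2), (14, 2), (15, 1), (16, 2), (17, 1), (20, 3), (21, 3), (22, 1), (23, 3), (26, 1), (27, 3), (28, 1), (29, 2), (30, 2), (32, 1), (33, 2), (34, 1), (35, 1), (36, 3), (38, 2), (40, 1), (41, 2), (42, 1), (43, 3), (44, 3), (45, 2), (47, 3), (48, 1), (51, 3), (52, 1), (53, 3), (55, 3), (56, 2), (58, 2), (59, 3), (60, 2), (61, 3), (63, 2), (64, 2), (66, 1), (67, 2), (68, 3), (69, 1), (70, 1), (72, 2), (73, 3)]),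
    ([(0, 1)], [(0, 2), (1, 2), (2, 1), (3, 1), (5, 2), (6, 3), (7, 1), (8, 2), (9, 3), (10, 1), (11, 3), (12, 3), (15, 1), (16, 1), (17, 2), (18, 1), (19, 2), (21, 2), (22, 2), (23, 3), (25, 1), (26, 1), (27, 1), (28, 1), (29, 3), (30, 3), (31, 2), (32, 1), (33, 1), (35, 2), (36, 2), (37, 2), (38, 3), (39, 1), (40, 2), (41, 1), (42, 2), (45, 3), (47, 1), (49, 2), (50, 2), (51, 1), (52, 1), (54, 3), (55, 1), (56, 1), (57, 2), (58, 2), (59, 3), (62, 1), (63, 2), (65, 2), (66, 1), (67, 2), (69, 3), (70, 3), (72, 2), (73, 3)]),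
    ([], [(3, 1), (4, 3), (5, 3), (9, 3), (10, 2), (14, 3), (15, 2), (18, 1), (19, 1), (20, 2), (21, 1), (22, 2), (25, 1), (26, 3), (28, 3), (29, 1), (30, 2), (32, 1), (33, 3), (34, 2), (35, 3), (36, 1), (37, 1), (38, 2), (39, 2), (40, 3), (41, 2), (44, 3), (45, 2), (48, 2), (49, 2), (51, 1), (53, 3), (54, 2), (55, 1), (57, 1), (59, 2), (60, 2), (64, 2), (65, 2), (68, 2), (72, 2)]),
    ([(0, 2)], [(0, 2), (1, 3), (2, 3), (3, 2), (4, 2), (7, 1), (8, 2), (10, 3), (12, 2), (13, 3), (14, 2), (15, 1), (17, 1), (18, 1), (19, 1), (20, 3), (21, 3), (23, 1), (24, 1), (26, 3), (28, 1), (29, 2), (30, 2), (32, 3), (34, 2), (35, 3), (37, 3), (38, 3), (40, 2), (42, 1), (43, 1), (45, 1), (46, 1), (47, 2), (48, 1), (49, 3), (50, 1), (52, 1), (53, 2), (54, 1), (56, 3), (57, 1), (58, 2), (60, 2), (61, 2), (62, 1),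 (63, 2), (64, 2), (65, 3), (67, 1), (69, 2), (70, 2), (72, 2), (73, 1)]),
    ([], [(0, 1), (1, 2), (2, 2), (3, 2), (5, 3), (6, 3), (7, 3), (8, 1), (9, 2), (10, 3), (13, 2), (14, 3), (15, 1), (16, 3), (19, 3), (20, 1), (23, 2), (26, 2), (27, 1), (28, 1), (29, 1), (30, 2), (31, 1), (32, 1), (33, 3), (35, 3), (36, 3), (38, 2), (39, 1), (40, 1), (41, 2), (46, 1), (48, 2), (49, 1), (50, 2), (51, 3), (52, 1), (53, 3), (54, 2), (55, 1), (56, 2), (57, 1), (62, 2), (65, 2), (69, 2), (72, 2)]),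
    ([(0, 1)], [(1, 2), (2, 1), (3, 2), (4, 1), (5, 3), (6, 2), (8, 2), (9, 2), (10, 3), (11, 1), (12, 1), (13, 2), (14, 1), (15, 1), (16, 3), (17, 1), (18, 2), (19, 3), (22, 1), (23, 1), (24, 1), (25, 1), (26, 2), (27, 3), (28, 2), (29, 1), (30, 2), (31, 1), (32, 1), (34, 2), (36, 2), (37, 3), (43, 3), (44, 2), (45, 3), (46, 2), (47, 2), (48, 1), (49, 1), (50, 1), (52, 1), (53, 2), (55, 2), (58, 2), (59, 1), (61, 2), (62, 1), (63, 2), (65, 2), (66, 3), (68, 2), (69, 3), (70, 1), (73, 3)]),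
    ([(0, 1)], [(2, 3), (3, 3), (4, 3), (5, 3), (6, 3), (7, 2), (8, 2), (9, 2), (11, 1), (12, 1), (15, 2), (17, 1), (18, 3), (20, 3), (21, 2), (22, 1), (23, 2), (24, 1), (25, 3), (26, 1), (27, 3), (28, 1), (29, 2), (32, 3), (33, 1), (34, 3), (35, 3), (36, 1), (37, 3), (38, 3), (39, 1), (40, 1), (41, 2), (43, 1), (44, 2), (45, 3), (46, 3), (48, 3), (49, 2), (50, 1), (51, 1), (53, 1), (55, 1), (56, 2), (57, 3), (58, 2), (59, 3), (60, 2), (61, 2), (62, 1), (63, 2), (64, 2), (66, 3), (69, 3), (70, 1), (73, 3)]),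
    ([], [(0, 3), (3, 1), (4, 2), (5, 1), (8, 3), (9, 2), (10, 1), (14, 2), (15, 1), (16, 1), (18, 3), (19, 2), (20, 1), (21, 1), (22, 2), (25, 3), (26, 3), (27, 1), (28, 2), (30, 2), (31, 1), (32, 3), (33, 3), (34, 3), (36, 2), (37, 3), (38, 2), (39, 1), (41, 2), (43, 2), (44, 3), (46, 2), (47, 2), (48, 2), (49, 2), (50, 2), (52, 2), (56, 2), (57, 2), (60, 2), (61, 2), (64, 2), (65, 2), (66, 2), (72, 2)]),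
    ([(0, 1)], [(1, 2), (2, 1), (3, 3), (5, 3), (6, 3), (7, 1), (9, 2), (10, 2), (11, 3), (12, 3), (13, 2), (14, 1), (16, 2), (17, 1), (18, 1), (19, 3), (20, 3), (21, 1), (22, 3), (24, 1), (27, 3), (29, 2), (30, 2), (33, 1), (34, 1), (36, 2), (37, 3), (38, 2), (39, 1), (40, 2), (41, 3), (43, 3), (44, 1), (45, 1), (47, 1), (48, 1), (49, 2), (50, 3), (51, 2), (52, 3), (53, 1), (55, 2), (58, 2), (59, 1), (62, 1), (63, 2), (66, 3), (69, 3), (70, 3), (73, 3)]),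
    ([], [(0, 1), (3, 2), (4, 1), (5, 1), (6, 1), (7, 3), (9, 2), (10, 2), (15, 2), (16, 2), (17, 2), (18, 1), (19, 2), (21, 3), (23, 1), (25, 1), (26, 1), (27, 2), (29, 1), (30, 1), (31, 2), (32, 2), (33, 3), (34, 2), (36, 1), (37, 3), (38, 1), (39, 3), (40, 3), (43, 2), (44, 2), (46, 2), (47, 2), (49, 1), (51, 3), (52, 2), (53, 3), (54, 2), (55, 3), (60, 2), (64, 2), (66, 2), (68, 2), (69, 2)]),
    ([], [(0, 2), (1, 2), (2, 2), (3, 3), (4, 1), (5, 2), (7, 3), (8, 2), (9, 2), (10, 3), (13, 2), (14, 1), (15, 3), (16, 3), (17, 2), (18, 1), (19, 3), (20, 1), (22, 2), (23, 3), (25, 1), (27, 2), (28, 1), (29, 2), (30, 3), (32, 2), (35, 3), (37, 3), (38, 1), (39, 1), (41, 2), (42, 2), (43, 2), (44, 3), (46, 1), (47, 2), (49, 3), (51, 2), (52, 3), (53, 2), (54, 2), (55, 2), (56, 2), (57, 1), (60, 2), (62,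 2), (64, 2), (65, 2), (66, 2), (68, 2), (70, 2)]),
    ([], [(0, 1), (1, 2), (2, 2), (3, 1), (4, 3), (5, 1), (6, 1), (7, 2), (14, 2), (17, 2), (18, 2), (19, 2), (22, 2), (25, 2), (26, 2), (28, 2), (30, 2), (31, 3), (34, 2), (35, 1), (36, 2), (38, 2), (39, 2), (41, 2), (42, 2), (43, 2), (45, 2), (46, 2), (48, 2), (49, 2), (51, 2), (52, 2), (54, 2), (55, 2), (57, 2), (70, 2)]),
    ([], [(0, 3), (5, 1), (6, 3)]),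
    ([], [(3, 1)]),
    ([], [(0, 3), (4, 2), (5, 2), (6, 2), (7, 2), (8, 1), (10, 1), (11, 2), (12, 2), (13, 2), (14, 1), (16, 3), (17, 2), (18, 1), (20, 1), (21, 3), (23, 2), (24, 1), (25, 2), (26, 3), (27, 3), (28, 1), (29, 1), (30, 2), (31, 2), (32, 2), (33, 1), (34, 1), (35, 3), (37, 1), (38, 1), (39, 1), (40, 3), (41, 1), (42, 3), (43, 1), (44, 3), (45, 1), (46, 2), (47, 1), (49, 2), (50, 3), (51, 2), (52, 1), (53, 3), (54, 1), (55, 3), (59, 2), (60, 2), (61, 2), (64, 2), (67, 2), (69, 2), (70, 2), (72, 2)]),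
    ([], [(18, 1)]),
    ([], [(5, 1), (6, 3), (31, 1), (34, 3), (35, 1)]),
    ([], [(0, 1), (4, 2), (5, 2), (6, 1), (11, 2), (12, 2), (13, 2), (16, 2), (18, 3), (21, 2), (22, 2), (23, 2), (24, 1), (25, 2), (26, 2), (29, 2), (31, 2), (32, 2), (33, 2), (34, 2), (35, 2), (36, 2), (38, 2), (39, 2), (40, 2), (41, 2), (42, 2), (43, 2), (44, 2), (45, 3), (47, 1), (50, 2), (52, 2), (54, 2), (55, 2), (60, 2), (62, 2), (64, 2), (65, 2), (66, 2), (67, 2), (68, 2), (72, 2)]),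
    ([], [(0, 2), (1, 2), (2, 2), (3, 2), (4, 3), (5, 1), (6, 2), (7, 3), (8, 2), (9, 3), (15, 1), (16, 2), (17, 3), (18, 1), (19, 3), (20, 2), (21, 2), (22, 3), (23, 2), (28, 2), (29, 2), (30, 2), (31, 2), (32, 1), (34, 3), (35, 1), (36, 1), (37, 1), (38, 2), (39, 2), (40, 2), (42, 1), (45, 1), (48, 1), (49, 1), (51, 2), (52, 3), (53, 2), (54, 2), (55, 1), (57, 2), (59, 2), (61, 2), (62, 2), (65, 2), (66, 2), (68, 2), (69, 2), (70, 2), (72, 2)]),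
    ([], [(0, 1), (1, 2), (2, 2), (3, 3), (4, 2), (5, 2), (6, 1), (8, 2), (9, 1), (13, 2), (14, 2), (15, 3), (17, 3), (19, 3), (20, 2), (21, 2), (22, 3), (23, 2), (25, 2), (26, 2), (31, 3), (33, 2), (34, 1), (35, 3), (36, 1), (37, 2), (38, 3), (40, 2), (41, 2), (42, 3), (43, 3), (44, 3), (45, 3), (46, 2), (47, 2), (48, 3), (52, 1), (54, 2), (55, 1), (56, 2), (60, 2), (61, 2), (62, 2), (64, 2), (66, 2), (67, 2)]),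
    ([], [(0, 3), (3, 3), (4, 1), (5, 3), (6, 2), (7, 1), (10, 2), (13, 2), (14, 2), (15, 2), (18, 1), (19, 2), (20, 2), (23, 2), (24, 1), (25, 2), (32, 2), (33, 2), (34, 3), (35, 2), (36, 2), (37, 1), (38, 2), (40, 2), (41, 2), (42, 2), (43, 2), (44, 2), (45, 2), (46, 2), (48, 2), (49, 3), (50, 2), (51, 2), (54, 2), (56, 2), (62, 2), (65, 2), (67, 2), (70, 2)]),
    ([], [(0, 1), (4, 1), (5, 1), (6, 1), (8, 3), (9, 1), (10, 3), (14, 3), (15, 3), (16, 1), (19, 1), (20, 3), (21, 2), (23, 2), (25, 2), (27, 1), (28, 3), (29, 3), (31, 2), (32, 3), (33, 3), (35, 2), (36, 1), (37, 2), (39, 3), (40, 1), (43, 2), (45, 2), (47, 2), (50, 2), (51, 3), (53, 1), (54, 2), (55, 3), (56, 2), (57, 1), (59, 2), (61, 2), (66, 2), (68, 2)]),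
    ([], [(0, 2), (5, 3), (6, 1)]),
    ([], [(0, 3), (1, 2), (2, 2), (4, 2), (5, 2), (6, 1), (7, 2), (8, 2), (13, 2), (14, 2), (16, 2), (17, 2), (18, 3), (19, 2), (22, 2), (23, 2), (24, 1), (26, 2), (27, 2), (29, 2), (30, 2), (36, 2), (44, 2), (46, 2), (49, 1), (50, 2), (51, 2), (53, 2), (56, 2), (62, 2), (65, 2), (67, 2)]),
    ([], [(1, 2), (2, 2), (4, 3), (5, 3), (6, 1), (7, 3), (8, 2), (9, 3), (10, 2), (11, 2), (12, 2), (14, 2), (15, 3), (17, 2), (18, 1), (19, 1), (20, 2), (21, 1), (23, 2), (24, 1), (26, 1), (27, 2), (28, 2), (30, 2), (31, 1), (32, 2), (34, 1), (35, 2), (36, 1), (38, 2), (39, 2), (40, 2), (41, 3), (42, 3), (43, 1), (44, 1), (45, 3), (47, 3), (48, 2), (49, 1), (50, 3), (51, 1), (52, 3), (54, 3), (57, 1), (59, 2), (65, 2), (66, 2), (70, 2)]),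
    ([], [(0, 1), (1, 2), (2, 2), (3, 2), (4, 2), (5, 2), (6, 3), (7, 2), (8, 2), (13, 2), (14, 2), (16, 2), (17, 2), (18, 1), (19, 2), (22, 2), (23, 1), (26, 2), (27, 2), (29, 2), (30, 2), (36, 2), (44, 2), (46, 2), (49, 1), (50, 2), (51, 2), (53, 2), (56, 2), (62, 2), (65, 2), (67, 2)]),
    ([], [(5, 3), (6, 1), (34, 1), (35, 3)]),
    ([], [(45, 1)]),
    ([], [(1, 2), (2, 2), (4, 2), (5, 1), (6, 2), (8, 3), (9, 1), (10, 3), (14, 1), (16, 3), (17, 1), (18, 1), (19, 2), (20, 1), (21, 3), (22, 3), (23, 1), (25, 3), (26, 1), (27, 3), (28, 1), (30, 1), (31, 1), (33, 1), (34, 3), (35, 3), (36, 3), (37, 3), (38, 3), (39, 3), (40, 1), (41, 2), (42, 2), (43, 1), (44, 1), (45, 3), (46, 3), (47, 2), (48, 1), (49, 2), (51, 2), (52, 2), (55, 3), (62, 2), (65, 2), (67, 2), (70, 2), (72, 2)]),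
    ([], [(0, 2), (1, 2), (2, 2), (3, 1), (5, 2), (6, 2), (7, 2), (8, 1), (10, 3), (14, 1), (15, 2), (16, 3), (17, 1), (20, 3), (22, 1), (25, 2), (26, 2), (27, 3), (28, 1), (29, 3), (32, 1), (33, 1), (34, 1), (38, 3), (39, 1), (40, 3), (41, 2), (42, 1), (43, 3), (44, 1), (45, 1), (46, 2), (48, 3), (49, 3), (51, 1), (52, 3), (53, 1), (54, 2), (57, 2), (61, 2), (65, 2), (68, 2), (69, 2), (72, 2)]),
    ([], [(0, 3), (1, 2), (2, 2), (3, 2), (4, 2), (5, 2), (6, 3), (7, 2), (8, 2), (9, 3), (10, 2), (14, 2), (16, 2), (18, 3), (24, 1), (26, 2), (28, 2), (29, 2), (30, 2), (33, 2), (34, 2), (37, 2), (39, 2), (40, 2), (42, 2), (44, 2), (46, 1), (47, 2), (49, 2), (50, 2), (51, 2), (52, 3), (53, 2), (54, 2), (55, 2), (56, 2), (59, 2), (61, 2), (66, 2), (67, 2), (68, 2), (69, 2), (70, 2), (72, 2)]),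
    ([], [(1, 2), (2, 2), (3, 3), (4, 2), (5, 2), (7, 2), (10, 2), (13, 2), (14, 2), (15, 2), (17, 2), (18, 1), (19, 2), (20, 2), (21, 1), (23, 3), (25, 2), (31, 1), (32, 2), (33, 2), (35, 1), (36, 2), (41, 2), (42, 2), (46, 2), (48, 2), (51, 2), (62, 2), (65, 2), (67, 2), (72, 2)])]

/-- Orbits inside the subgroup. -/
def orbits : List (ℕ × List (ℕ × List ℕ)) := [
    (2, [(0, [5, 6]), (1, [3, 9, 10, 11]), (2, []), (5, [3, 7, 8, 11]), (6, [6, 8, 9, 11]), (7, [0, 2, 4]), (9, [2, 3, 9]), (10, [0, 1, 9]), (11, [0, 3, 6, 11]), (12, [3, 5, 11]), (17, [0, 5, 8, 9]), (20, [2, 5]), (22, [10, 11]), (24, [0, 6, 8, 10]), (26, [0, 4, 9]), (28, [0, 1, 2, 3]), (29, [0, 1, 2, 3, 8]), (30, [0, 7, 10, 11]), (31, [3, 8, 9]), (32, [0, 2, 5, 11]), (33, [3, 6, 8, 9]), (34, [5, 11]), (37, [0, 2, 3, 7, 8]), (42, [0, 6,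 11]), (44, [0, 5, 9]), (45, [5, 10, 11]), (46, [7]), (47, [5, 7, 9]), (48, [7, 8, 10]), (51, [0, 2, 3, 4]), (52, [2, 5, 11]), (53, [6, 9, 11]), (54, [5, 8, 9]), (55, [0, 4, 6, 9]), (56, [0, 1, 3, 9]), (57, [0, 3, 8, 9, 10]), (58, [3, 4, 7, 9]), (60, [4, 6, 10]), (63, [3, 6, 7]), (65, [3, 8, 9, 10]), (66, [0, 8, 11]), (67, [3, 4, 9]), (68, [3, 7, 9, 10]), (69, [9, 11]), (70, [1, 3, 7]), (71, [3, 9, 11]), (72, [3, 7]), (74, [0, 3, 5, 9, 10]), (75, [0, 3, 6, 7]), (76, [3, 6, 9]), (77, [0, 3, 4, 9]), (80, [0, 2, 3, 11]), (85, [2, 10]), (86, [0, 3, 9, 10, 11]), (87, [6, 9]), (88, [0, 3, 5, 9]), (91, [4, 11]), (92, [0, 3, 5, 10]), (93, [0, 3, 7, 11]), (94, [4, 6, 9]), (95, [0, 3, 6, 9]), (96, [0, 3, 11]), (98, [0, 3, 7]), (101, [0, 3, 4, 9, 10]), (102, [0, 6, 8, 9, 11]), (103, [0, 5, 10, 11]), (105, [7,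 10]), (106, [4, 5]), (108, [1, 4]), (110, [4, 6]), (111, [0, 10, 11]), (112, [7, 11]), (113, [0, 5, 11]), (114, [0, 2, 3, 9]), (115, [0, 5, 6]), (116, [3, 9]), (117, [0, 6, 10]), (118, [0, 3, 6]), (120, [3, 4, 6]), (122, [3, 5]), (124, [3, 9, 10]), (125, [2, 3, 10]), (126, [0, 3, 4, 6, 9]), (127, [0, 8]), (128, [1, 2, 3]), (130, [3, 5, 8, 9]), (133, [3, 11]), (134, [0, 3, 8, 11]), (135, [7, 8, 11]), (136, [0, 5, 10]), (137, [3, 5, 10]), (138, [6, 8, 9]), (140, [0, 3, 6, 10]), (143, [3, 6]), (148, [3, 7, 10]), (149, [3, 6, 10, 11]), (150, [3, 8]), (152, [0, 1, 11]), (153, [5, 9, 11]), (155, [0, 6, 8]), (156, [0, 7, 8, 10]), (159, [8, 11]), (161, [0, 2, 3, 4, 6]), (162, [0, 6]), (165, [3, 7, 8, 10]), (166, [6, 8, 10]), (167, [7, 8]), (172, [0, 3, 5, 10, 11]), (173, [0, 9, 11]), (174, [3, 4, 9, 10]),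 (175, [7, 10, 11]), (178, [3]), (181, [2, 4, 11]), (182, [0, 5]), (185, [4, 5, 10]), (186, [0, 6, 10, 11]), (187, [0, 2, 5]), (189, [0, 3, 7, 8, 10]), (190, [3, 6, 10]), (191, [0, 7, 9]), (192, [2, 3, 8]), (193, [3, 5, 6]), (196, [9, 10]), (198, [3, 6, 8]), (199, [3, 6, 8, 10]), (200, [0, 7, 10]), (202, [1, 10]), (205, [0, 3, 5]), (207, [0, 3, 6, 8, 10]), (209, [0, 2]), (211, [8, 9]), (212, [2, 3, 4, 6]), (213, [0, 3, 9, 10]), (215, [3, 7, 8]), (216, [2, 3, 7]), (217, [2, 3, 7, 10]), (218, [0, 6, 8, 9]), (219, [0, 3, 10, 11]), (220, [0, 3, 7, 9, 11]), (225, [2, 3]), (227, [3, 5, 10, 11]), (229, [7, 9]), (230, [2, 3, 11]), (233, [3, 5, 7, 9]), (234, [1, 9]), (235, [4]), (237, [5, 9]), (238, [0, 2, 3]), (239, [8]), (240, [2]), (241, [3, 10, 11]), (243, [5]), (244, [1, 2, 3, 8]), (246, [0, 2, 6]), (249,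 [3, 6, 11]), (250, [1, 3, 9]), (252, [0, 8, 9]), (254, [0, 3, 4, 7, 9]), (255, [0, 3, 7, 10, 11]), (257, [0, 2, 3, 7]), (258, [0, 4, 9, 10]), (260, [0, 3, 7, 8, 11]), (261, [2, 7]), (262, [0, 7, 11]), (263, [3, 7, 10, 11]), (265, [0, 1, 6]), (270, [0, 5, 7, 9]), (271, [3, 7, 11]), (272, [6, 8]), (273, [4, 9, 10]), (275, [3, 8, 11]), (276, [3, 7, 9, 11]), (281, [3, 4, 6, 9]), (283, [0, 3, 9, 11]), (288, [0, 9, 10]), (289, [0, 3, 7, 9]), (291, [9, 10, 11]), (293, [2, 3, 4]), (294, [4, 7, 9]), (295, [0, 3, 5, 11]), (296, [0, 4, 6, 10]), (298, [3, 4]), (299, [0, 3, 6, 8]), (301, [3, 4, 5]), (303, [0, 3, 9]), (304, [1]), (306, [0, 1, 4]), (311, [6, 10]), (313, [6, 11]), (314, [10]), (315, [0, 4, 11]), (316, [0, 2, 3, 8]), (317, [0, 3, 4, 11]), (320, [9]), (321, [0, 1, 3, 4]), (322, [11]), (323, [0, 9,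 10, 11]), (325, [3, 5, 9, 10]), (328, [0]), (329, [0, 2, 3, 10]), (330, [0, 4, 5]), (332, [0, 3, 8, 9]), (333, [0, 1]), (334, [0, 2, 11]), (337, [0, 3, 8]), (338, [0, 6, 7]), (340, [0, 4, 5, 10]), (341, [0, 4]), (342, [4, 9]), (344, [0, 3, 10]), (346, [3, 5, 9]), (348, [0, 3, 5, 6]), (349, [3, 10]), (351, [0, 6, 9, 11]), (352, [0, 4, 6]), (353, [3, 7, 9]), (355, [0, 3, 7, 9, 10]), (356, [0, 6, 9]), (358, [0, 3]), (359, [0, 7, 8]), (360, [0, 3, 7, 8, 9]), (361, [0, 4, 7, 9]), (362, [1, 6]), (366, [6]), (367, [0, 3, 4]), (368, [0, 11]), (371, [6, 7]), (372, [3, 7, 8, 9]), (376, [0, 3, 4, 6]), (377, [0, 2, 10]), (378, [0, 3, 6, 10, 11]), (379, [0, 1, 3, 7]), (382, [0, 2, 7]), (383, [2, 6]), (384, [0, 5, 9, 11]), (385, [2, 4]), (388, [0, 7]), (389, [0, 2, 3, 7, 10]), (390, [1, 3, 4]), (391, [2, 11]),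 (393, [5, 10]), (394, [0, 3, 5, 7, 9]), (395, [0, 3, 7, 10]), (397, [0, 3, 7, 8]), (398, [0, 3, 5, 8, 9]), (399, [0, 2, 4, 11]), (400, [0, 10]), (402, [0, 1, 10]), (405, [3, 4, 11]), (406, [6, 10, 11]), (407, [0, 3, 4, 5]), (408, [1, 11]), (409, [0, 3, 6, 8, 9]), (411, [2, 3, 7, 8]), (413, [0, 9]), (415, [0, 7, 8, 11])]),
    (4, [(4, []), (18, [4, 8]), (41, [2, 4, 7, 9, 11]), (73, [2, 7, 8, 9, 10]), (89, [1, 4, 6, 7, 8, 9, 11]), (131, [2, 4, 5, 6, 8, 9, 11]), (144, [1, 5, 8, 9]), (180, [1, 2, 6, 8, 10, 11]), (183, [1, 4, 5, 9, 10]), (197, [4, 5, 6, 7, 10, 11]), (274, [2, 5, 6, 9, 10]), (302, [1, 2, 5, 7, 10, 11]), (335, [1, 6, 7, 9, 10, 11]), (350, [1, 2, 4, 5, 7, 8, 10]), (364, [5, 6, 7, 8, 10, 11]), (369, [1, 2, 4, 6, 10])])]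

theorem checks : certChecks 416 tab cert sw gw orbits = true := by decide +kernel

theorem lin_ok : cert.linOK = true := by decide +kernel

end CfsgLib.Lie.MultExc.GTwoFour.P2
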