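import Cfsg.Agent.Lib.Lie.MultExc.GTwoFour.Table

/-!
The certificate at the prime 3: a polycyclic sequence of a Sylow subgroup and conjugations.
-/

set_option autoImplicit false
set_option maxRecDepth 100000
set_option maxHeartbeats 0

namespace CfsgLib.Lie.MultExc.GTwoFour.P3

open CfsgLib.Spor.SchurCert

/-- The Sylow elements. -/
def sw : List (List ℕ) := [
    [379, 713, 810, 910, 829],
    [8, 508, 852],
    [3, 820, 915, 829]]

/-- The conjugating elements. -/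
def gw : List (List ℕ) := [
    [267, 742, 820, 5, 829],
    [296, 616, 861, 914, 829],
    [105, 576, 817, 915, 829]]

/-- The certificate. -/
def cert : CfsgLib.Spor.SchurCert.Cert where
  p := 3
  m := 3
  N := 3
  rules := [
    ([0, 0, 0], []),
    ([1, 1, 1], []),
    ([2, 2, 2], []),
    ([1, 0], [0, 1, 2, 2]),
    ([2, 0], [0, 2]),
    ([2, 1], [1, 2])]
  maps := [
    [([0, 2], [0, 0, 2, 2])],
    [([0], [0, 0, 1, 1, 2, 2]), ([1], [1, 2, 2]), ([2], [2, 2])],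
    [([1, 2, 2], [1, 1, 2])]]
  overlaps := [
    ([1, 1, 1, 0], [(1, 0)], [(3, 2), (3, 1), (3, 0), (5, 3), (5, 2), (2, 3), (5, 3), (1, 1), (2, 1)])]
  fuses := [
    ⟨0, [0, 0, 0], [], [(4, 1), (4, 3), (4, 2), (0, 0), (2, 0)], [], [(4, 3), (4, 2), (0, 0), (4, 1), (4, 0), (2, 1), (4, 1), (4, 2), (0, 0), (2, 0)], []⟩,
    ⟨1, [0, 0, 0], [], [(0, 0)], [], [(4, 5), (4, 4), (3, 3), (3, 2), (0, 0), (5, 2), (5, 1), (2, 2), (2, 2), (3, 1), (3, 0), (5, 3), (5, 2), (2, 3), (5, 3), (1, 1), (5, 1), (2, 2), (3, 1), (4, 4), (4, 3), (3, 2), (0, 0), (2, 1), (5, 1), (5, 2), (1, 0), (2, 0)], []⟩,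
    ⟨1, [2, 0], [0, 2], [(4, 0)], [], [(4, 1), (4, 0), (4, 2), (4, 1), (5, 3), (5, 2), (5, 4), (5, 3), (2, 4)], [(2, 4)]⟩,
    ⟨2, [0, 0, 0], [], [(5, 2), (5, 1), (2, 2), (5, 2), (1, 0), (2, 0)], [], [(5, 2), (1, 0), (5, 0), (5, 2), (5, 1), (5, 3), (5, 2), (1, 0), (2, 0)], []⟩]
  adj := [
    [],
    [],
    [(3, 2)]]
  base := []
  dense := [
    [0, 0, 1],
    [2, 0, 2],
    [2, 1, 0, 0, 2, 1],
    [0, 0, 0, 0, 0, 2],
    [0, 2, 1]]
  tgt := [
    ([], [(0, 2), (1, 2)]),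
    ([], [(0, 1), (4, 2)]),
    ([], [(0, 1)]),
    ([], []),
    ([], [(0, 2), (1, 1), (2, 2), (3, 2), (4, 2)]),
    ([], [(3, 2)])]

/-- Orbits inside the subgroup. -/
def orbits : List (ℕ × List (ℕ × List ℕ)) := [
    (2, [(2, []), (8, [1]), (13, [0, 0]), (32, [1, 1]), (42, [0, 0, 1, 1]), (44, [0, 0, 1]), (174, [0]), (253, [0, 1, 1]), (366, [0, 1])]),
    (4, [(4, []), (7, [2]), (405, [2, 2])])]

theorem checks : certChecks 416 tab cert sw gw orbits = true := by decide +kernel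

theorem lin_ok : cert.linOK = true := by decide +kernel

end CfsgLib.Lie.MultExc.GTwoFour.P3
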