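import Cfsg.Agent.Lib.Lie.MultExc.GTwoFour.Table

/-!
The certificate at the prime 5: a polycyclic sequence of a Sylow subgroup and conjugations.
-/

set_option autoImplicit false
set_option maxRecDepth 100000
set_option maxHeartbeats 0

namespace CfsgLib.Lie.MultExc.GTwoFour.P5

open CfsgLib.Spor.SchurCert

/-- The Sylow elements. -/
def sw : List (List ℕ) := [
    [206, 578, 817, 913, 828],
    [381, 652, 817, 913]]

/-- The conjugating elements. -/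
def gw : List (List ℕ) := [
    [119, 691, 842, 911, 828],
    [38, 523, 847, 910, 828]]

/-- The certificate. -/
def cert : CfsgLib.Spor.SchurCert.Cert where
  p := 5
  m := 2
  N := 5
  rules := [
    ([0, 0, 0, 0, 0], []),
    ([1, 1, 1, 1, 1], []),
    ([1, 0], [0, 1])]
  maps := [
    [([0], [0, 0, 0, 1]), ([1], [0, 0, 1, 1])],
    [([0], [0, 0, 1, 1, 1, 1]), ([1], [0, 0, 0, 1, 1, 1])]]
  overlaps := []
  fuses := [
    ⟨0, [0, 0, 0, 0, 0], [], [(0, 0)], [], [(2, 3), (2, 4), (0, 0), (2, 0), (2, 2), (2, 1), (2, 3), (2, 2), (2, 4), (2, 3), (2, 6), (2, 5), (2, 4), (0, 0), (2, 2), (2, 1), (2, 0), (2, 3), (2, 2), (2, 1), (2, 5), (2, 4), (2, 3), (2, 2), (2, 6), (2, 5), (2, 4), (2, 3), (2, 7), (2, 6), (2, 5), (2, 4), (0, 0), (1, 0)], []⟩,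
    ⟨0, [1, 0], [0, 1], [(2, 0)], [], [(2, 3), (2, 2), (2, 4), (2, 3), (2, 5), (2, 4), (0, 0)], [(2, 3), (2, 4), (0, 0)]⟩,
    ⟨1, [0, 0, 0, 0, 0], [], [(0, 0)], [], [(2, 5), (2, 4), (2, 3), (2, 2), (2, 6), (2, 5), (2, 4), (2, 3), (1, 4), (2, 6), (2, 5), (2, 4), (0, 0), (2, 2), (2, 1), (2, 0), (1, 1), (2, 2), (2, 1), (2, 3), (2, 2), (1, 3), (2, 3), (2, 4), (0, 0), (1, 0)], []⟩]
  adj := [
    [],
    []]
  base := []
  dense := [
    [3, 4],
    [0, 0, 2],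
    [4, 1]]
  tgt := [
    ([], [(0, 3), (2, 3)]),
    ([], [(0, 3), (2, 4)]),
    ([], [(1, 3)])]

/-- Orbits inside the subgroup. -/
def orbits : List (ℕ × List (ℕ × List ℕ)) := [
    (2, [(2, []), (3, [0, 0, 0, 1, 1, 1]), (14, [0, 0, 0]), (97, [0, 0, 1, 1, 1, 1]), (122, [0, 0, 0, 0, 1, 1, 1]), (125, [0, 0, 1, 1, 1]), (134, [0, 1, 1, 1]), (148, [0, 0, 0, 0, 1]), (164, [0, 0, 0, 0, 1, 1]), (179, [0, 0, 0, 1, 1, 1, 1]), (183, [1]), (194, [0, 1]), (196, [0]), (208, [0, 1, 1, 1, 1]), (227, [0, 0, 1]), (233, [0, 0, 0, 1, 1]), (245, [1, 1, 1, 1]), (259, [0, 0, 0, 0, 1, 1, 1, 1]), (278, [0, 0, 0, 1]), (316, [0, 1, 1]), (344, [1, 1, 1]), (374, [0, 0]), (382, [1, 1]), (391, [0, 0, 1, 1]), (396, [0, 0, 0, 0])])]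

theorem checks : certChecks 416 tab cert sw gw orbits = true := by decide +kernel

theorem lin_ok : cert.linOK = true := by decide +kernel

end CfsgLib.Lie.MultExc.GTwoFour.P5
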