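import Cfsg.Agent.Lib.Lie.MultExc.GTwoFour.Group
import Cfsg.Agent.Lib.Lie.MultExc.GTwoFour.Cover
import Cfsg.Agent.Lib.Lie.MultExc.GTwoFour.P2
import Cfsg.Agent.Lib.Lie.MultExc.GTwoFour.P3
import Cfsg.Agent.Lib.Lie.MultExc.GTwoFour.P5
import Cfsg.Agent.Lib.Lie.Chev.FieldMap
import Cfsg.Agent.Lib.Lie.Chev.GoodG2

/-!
The Schur multiplier of the exceptional group of type `G` over four elements has order two.
-/

set_option autoImplicit false
set_option maxRecDepth 100000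

namespace CfsgLib.Lie.MultExc.GTwoFour

open CfsgLib.Spor.SchurCert Cfsg.Lie CfsgLib.Lie.Chev

theorem cert_facts : (P2.cert.p = 2 ∧ P2.cert.N = 2 ^ 2 ∧ P2.cert.bound = 2 ∧ P2.cert.m = 12) ∧
    (P3.cert.p = 3 ∧ P3.cert.N = 3 ^ 1 ∧ P3.cert.bound = 1 ∧ P3.cert.m = 3) ∧
    (P5.cert.p = 5 ∧ P5.cert.N = 5 ^ 1 ∧ P5.cert.bound = 1 ∧ P5.cert.m = 2) ∧
    (tab.trans.map List.length).prod = 251596800 := by
  decide +kernel

theorem ker_dvd {H : Subgroup (Equiv.Perm (Fin 416))} (M : Model 416 tab H) {Γ : Type*} [Group Γ] [Finite Γ]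
    (τ : Γ →* ↥H) (hτ : Cfsg.IsStemExtension τ) : Nat.card τ.ker ∣ 2 := by
  obtain ⟨⟨hp, hN, hb, hm⟩, ⟨hp', hN', hb', hm'⟩, ⟨hp'', hN'', hb'', hm''⟩, hord⟩ := cert_facts
  refine card_dvd_of_parts τ.ker (by norm_num) fun ℓ hℓ P hP hPp => ?_
  by_cases h2 : ℓ = 2
  · subst h2
    have h := part_le M hτ P2.cert (by rw [hp]; norm_num) (e := 2) (by rw [hp, hN]) (by rw [hb, hN]; norm_num)
      (r := 61425) (by rw [hp]; norm_num) (by rw [hp, hm, hord]; norm_num) P2.checks P2.lin_ok P hP (by rw [hp]; exact hPp)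
    rw [hb] at h
    refine h.trans (le_of_eq ?_)
    rw [hℓ.factorization_self, pow_one]
  refine le_trans ?_ (Nat.one_le_pow _ _ hℓ.pos)
  by_cases h3 : ℓ = 3
  · subst h3
    have h := part_le M hτ P3.cert (by rw [hp']; norm_num) (e := 1) (by rw [hp', hN']) (by rw [hb', hN']; norm_num)
      (r := 9318400) (by rw [hp']; norm_num) (by rw [hp', hm', hord]; norm_num) P3.checks P3.lin_ok P hP (by rw [hp']; exact hPp)
    rwa [hb'] at h
  by_cases h5 : ℓ = 5
  · subst h5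
    have h := part_le M hτ P5.cert (by rw [hp'']; norm_num) (e := 1) (by rw [hp'', hN'']) (by rw [hb'', hN'']; norm_num)
      (r := 10063872) (by rw [hp'']; norm_num) (by rw [hp'', hm'', hord]; norm_num) P5.checks P5.lin_ok P hP (by rw [hp'']; exact hPp)
    rwa [hb''] at h
  by_cases h7 : ℓ = 7
  · subst h7
    exact part_once M hτ hℓ (r := 35942400) (by rw [hord]) (by norm_num) P hP hPp
  by_cases h13 : ℓ = 13
  · subst h13
    exact part_once M hτ hℓ (r := 19353600) (by rw [hord]) (by norm_num) P hP hPp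
  refine part_other M hτ hℓ ?_ P hP hPp
  rw [hord, show (251596800 : ℕ) = 2 ^ 12 * (3 ^ 3 * (5 ^ 2 * (7 * 13))) by norm_num]
  intro hd
  rcases hℓ.dvd_mul.1 hd with h | h
  · exact h2 ((Nat.prime_dvd_prime_iff_eq hℓ Nat.prime_two).1 (hℓ.dvd_of_dvd_pow h))
  rcases hℓ.dvd_mul.1 h with h | h
  · exact h3 ((Nat.prime_dvd_prime_iff_eq hℓ Nat.prime_three).1 (hℓ.dvd_of_dvd_pow h))
  rcases hℓ.dvd_mul.1 h with h | h
  · exact h5 ((Nat.prime_dvd_prime_iff_eq hℓ Nat.prime_five).1 (hℓ.dvd_of_dvd_pow h))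
  rcases hℓ.dvd_mul.1 h with h | h
  · exact h7 ((Nat.prime_dvd_prime_iff_eq hℓ (by norm_num)).1 h)
  · exact h13 ((Nat.prime_dvd_prime_iff_eq hℓ (by norm_num)).1 h)

universe u

theorem multiplier_G24 {F : Type u} [Field F] [Fintype F] (hF : Fintype.card F = 4) :
    Cfsg.HasCyclicSchurMultiplier ↥(chevG2.group F) 2 := by
  obtain ⟨H, M, ⟨e⟩⟩ := exists_g24Model
  let ι : CfsgLib.Spor.Fi22.U6.Four ≃+* F :=
    FiniteField.ringEquivOfCardEq (CfsgLib.Spor.Fi22.U6.Four.card_four.trans hF.symm)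
  obtain ⟨f⟩ := goodG2.nonempty_groupEquiv ι
  have : Finite ↥(chevG2.group F) := Finite.of_equiv _ (e.trans f).toEquiv
  haveI : Finite ↥H := inferInstance
  have hperf : commutator ↥H = ⊤ := by
    haveI : IsSimpleGroup ↥(chevG2.group CfsgLib.Spor.Fi22.U6.Four) := by
      obtain ⟨h, -⟩ := CfsgLib.Spor.Suz.g2_four
      obtain ⟨g⟩ := CfsgLib.Spor.Suz.GTwo.pres_iso
      haveI := h
      haveI : Nontrivial ↥(chevG2.group CfsgLib.Spor.Fi22.U6.Four) := g.symm.toEquiv.nontrivial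
      exact g.symm.isSimpleGroup
    haveI : Nontrivial ↥H := e.toEquiv.nontrivial
    haveI : IsSimpleGroup ↥H := e.isSimpleGroup
    refine CfsgLib.Spor.Mults.commutator_eq_top_of_simple ?_
    by_contra hc
    push_neg at hc
    letI : CommGroup ↥H := { (inferInstance : Group ↥H) with mul_comm := hc }
    have hp := IsSimpleGroup.prime_card (α := ↥H)
    rw [M.card, (cert_facts).2.2.2] at hp
    norm_num at hp
  obtain ⟨Γ, _, _, τ, hτ, hk⟩ := exists_doubleCover M hperf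
  haveI : Fact (Nat.Prime 2) := ⟨Nat.prime_two⟩
  haveI : IsCyclic τ.ker := isCyclic_of_prime_card hk
  refine hasSchurMultiplier_of_cover_bound (e.trans f) hτ
    ⟨mulEquivOfCyclicCardEq (by rw [hk, Nat.card_congr Multiplicative.toAdd, Nat.card_zmod])⟩ fun Δ _ _ π hπ => ?_
  rw [Nat.card_congr Multiplicative.toAdd, Nat.card_zmod]
  exact ker_dvd M π hπ

end CfsgLib.Lie.MultExc.GTwoFour
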