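import Cfsg.Agent.Lib.Lie.MultExc.GTwoFour.RepData
import Cfsg.Agent.Lib.Lie.MultExc.GTwoFour.Table

/-!
The twelve-dimensional matrices permute the matrices of the points as the generators permute the points.
-/

set_option autoImplicit false
set_option maxRecDepth 100000
set_option maxHeartbeats 0

namespace CfsgLib.Lie.MultExc.GTwoFour

open CfsgLib.Spor.PermCert CfsgLib.Lie.MultExc.PackMat Matrix

/-- The packed lift of a generator. -/
def gm (s : ℕ) : List ℕ := gRows.getD s []

/-- One generator moves the matrices of the points correctly. -/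
def conjOK (s : ℕ) : Bool :=
  (List.range 416).all fun x => sameProd 12 (gm s) (jm x) (jm (look tab.w tab.R s x)) (gm s)

/-- The sign of the square of a lift. -/
def sgn (s : ℕ) : ZMod 3 := if s = 3 ∨ s = 4 then -1 else 1

theorem mats_ok : ((List.range 416).all fun x => matOK 12 (jm x)) = true ∧
    ((List.range 6).all fun s => matOK 12 (gm s)) = true := by decide +kernel

theorem involutive : ∀ s : Fin 6, ∀ i : Fin 416,
    look tab.w tab.R s.1 i.1 < 416 ∧ look tab.w tab.R s.1 (look tab.w tab.R s.1 i.1) = i.1 := by
  decide +kernel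

theorem squares : ∀ s : Fin 6, toM 12 (gm s.1) * toM 12 (gm s.1) = sgn s.1 • (1 : M12) := by decide +kernel

theorem poly_ok : poly *ᵥ kerVec = 0 ∧ polyInv * poly + vecMulVec kerVec kerRow = 1 := by decide +kernel

/-- The basis obtained from the vector. -/
def spanMat : M12 :=
  Matrix.of fun i k => ((spanWords.getD k.1 []).foldr (fun a v => jMat a *ᵥ v) kerVec) i

theorem span_ok : spanInv * spanMat = 1 ∧ spanWords.all (fun u => u.all fun a => Nat.blt a 416) = true := by
  decide +kernel

end CfsgLib.Lie.MultExc.GTwoFour
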