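import Cfsg.Agent.Lib.Lie.MultExc.GTwoFour.RepChecks

/-!
The checks of the six generators on the matrices of the points.
-/

set_option autoImplicit false
set_option maxRecDepth 100000
set_option maxHeartbeats 0
set_option Elab.async false

namespace CfsgLib.Lie.MultExc.GTwoFour

theorem conj_zero : conjOK 0 = true := by decide +kernel

theorem conj_one : conjOK 1 = true := by decide +kernel

theorem conj_two : conjOK 2 = true := by decide +kernel

theorem conj_three : conjOK 3 = true := by decide +kernel

theorem conj_four : conjOK 4 = true := by decide +kernel

theorem conj_five : conjOK 5 = true := by decide +kernel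

end CfsgLib.Lie.MultExc.GTwoFour
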